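import Cfsg.Agent.Lib.Schur.Cover.Fi24T.Tab
import Cfsg.Agent.Lib.TC.G.Fi24

set_option autoImplicit false
set_option maxRecDepth 100000
set_option maxHeartbeats 0
set_option Elab.async false

namespace Cfsg.Agent.Lib.Schur.Cover.Fi24T

open Cfsg.Agent.Lib.Schur.CoverTw Cfsg.Agent.Lib.PermComp.Kron
open Cfsg.Agent.Lib.TC.D.Fi24a.Tab (pt)

theorem ck65 : rangeAll (chkAtT pt 12 tb RJ) (65 * 200) 200 = true := by decide +kernel
theorem ck66 : rangeAll (chkAtT pt 12 tb RJ) (66 * 200) 200 = true := by decide +kernel
theorem ck67 : rangeAll (chkAtT pt 12 tb RJ) (67 * 200) 200 = true := by decide +kernel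
theorem ck68 : rangeAll (chkAtT pt 12 tb RJ) (68 * 200) 200 = true := by decide +kernel
theorem ck69 : rangeAll (chkAtT pt 12 tb RJ) (69 * 200) 200 = true := by decide +kernel
theorem ck70 : rangeAll (chkAtT pt 12 tb RJ) (70 * 200) 200 = true := by decide +kernel
theorem ck71 : rangeAll (chkAtT pt 12 tb RJ) (71 * 200) 200 = true := by decide +kernel
theorem ck72 : rangeAll (chkAtT pt 12 tb RJ) (72 * 200) 200 = true := by decide +kernel
theorem ck73 : rangeAll (chkAtT pt 12 tb RJ) (73 * 200) 200 = true := by decide +kernel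
theorem ck74 : rangeAll (chkAtT pt 12 tb RJ) (74 * 200) 200 = true := by decide +kernel
theorem ck75 : rangeAll (chkAtT pt 12 tb RJ) (75 * 200) 200 = true := by decide +kernel
theorem ck76 : rangeAll (chkAtT pt 12 tb RJ) (76 * 200) 200 = true := by decide +kernel
theorem ck77 : rangeAll (chkAtT pt 12 tb RJ) (77 * 200) 200 = true := by decide +kernel
theorem ck78 : rangeAll (chkAtT pt 12 tb RJ) (78 * 200) 200 = true := by decide +kernel
theorem ck79 : rangeAll (chkAtT pt 12 tb RJ) (79 * 200) 200 = true := by decide +kernel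
theorem ck80 : rangeAll (chkAtT pt 12 tb RJ) (80 * 200) 200 = true := by decide +kernel
theorem ck81 : rangeAll (chkAtT pt 12 tb RJ) (81 * 200) 200 = true := by decide +kernel
theorem ck82 : rangeAll (chkAtT pt 12 tb RJ) (82 * 200) 200 = true := by decide +kernel
theorem ck83 : rangeAll (chkAtT pt 12 tb RJ) (83 * 200) 200 = true := by decide +kernel
theorem ck84 : rangeAll (chkAtT pt 12 tb RJ) (84 * 200) 200 = true := by decide +kernel
theorem ck85 : rangeAll (chkAtT pt 12 tb RJ) (85 * 200) 200 = true := by decide +kernel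
theorem ck86 : rangeAll (chkAtT pt 12 tb RJ) (86 * 200) 200 = true := by decide +kernel
theorem ck87 : rangeAll (chkAtT pt 12 tb RJ) (87 * 200) 200 = true := by decide +kernel
theorem ck88 : rangeAll (chkAtT pt 12 tb RJ) (88 * 200) 200 = true := by decide +kernel
theorem ck89 : rangeAll (chkAtT pt 12 tb RJ) (89 * 200) 200 = true := by decide +kernel
theorem ck90 : rangeAll (chkAtT pt 12 tb RJ) (90 * 200) 200 = true := by decide +kernel
theorem ck91 : rangeAll (chkAtT pt 12 tb RJ) (91 * 200) 200 = true := by decide +kernel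
theorem ck92 : rangeAll (chkAtT pt 12 tb RJ) (92 * 200) 200 = true := by decide +kernel
theorem ck93 : rangeAll (chkAtT pt 12 tb RJ) (93 * 200) 200 = true := by decide +kernel
theorem ck94 : rangeAll (chkAtT pt 12 tb RJ) (94 * 200) 200 = true := by decide +kernel
theorem ck95 : rangeAll (chkAtT pt 12 tb RJ) (95 * 200) 200 = true := by decide +kernel
theorem ck96 : rangeAll (chkAtT pt 12 tb RJ) (96 * 200) 200 = true := by decide +kernel
theorem ck97 : rangeAll (chkAtT pt 12 tb RJ) (97 * 200) 200 = true := by decide +kernel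
theorem ck98 : rangeAll (chkAtT pt 12 tb RJ) (98 * 200) 200 = true := by decide +kernel
theorem ck99 : rangeAll (chkAtT pt 12 tb RJ) (99 * 200) 200 = true := by decide +kernel
theorem ck100 : rangeAll (chkAtT pt 12 tb RJ) (100 * 200) 200 = true := by decide +kernel
theorem ck101 : rangeAll (chkAtT pt 12 tb RJ) (101 * 200) 200 = true := by decide +kernel
theorem ck102 : rangeAll (chkAtT pt 12 tb RJ) (102 * 200) 200 = true := by decide +kernel
theorem ck103 : rangeAll (chkAtT pt 12 tb RJ) (103 * 200) 200 = true := by decide +kernel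
theorem ck104 : rangeAll (chkAtT pt 12 tb RJ) (104 * 200) 200 = true := by decide +kernel
theorem ck105 : rangeAll (chkAtT pt 12 tb RJ) (105 * 200) 200 = true := by decide +kernel
theorem ck106 : rangeAll (chkAtT pt 12 tb RJ) (106 * 200) 200 = true := by decide +kernel
theorem ck107 : rangeAll (chkAtT pt 12 tb RJ) (107 * 200) 200 = true := by decide +kernel
theorem ck108 : rangeAll (chkAtT pt 12 tb RJ) (108 * 200) 200 = true := by decide +kernel
theorem ck109 : rangeAll (chkAtT pt 12 tb RJ) (109 * 200) 200 = true := by decide +kernel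
theorem ck110 : rangeAll (chkAtT pt 12 tb RJ) (110 * 200) 200 = true := by decide +kernel
theorem ck111 : rangeAll (chkAtT pt 12 tb RJ) (111 * 200) 200 = true := by decide +kernel
theorem ck112 : rangeAll (chkAtT pt 12 tb RJ) (112 * 200) 200 = true := by decide +kernel
theorem ck113 : rangeAll (chkAtT pt 12 tb RJ) (113 * 200) 200 = true := by decide +kernel
theorem ck114 : rangeAll (chkAtT pt 12 tb RJ) (114 * 200) 200 = true := by decide +kernel
theorem ck115 : rangeAll (chkAtT pt 12 tb RJ) (115 * 200) 200 = true := by decide +kernel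
theorem ck116 : rangeAll (chkAtT pt 12 tb RJ) (116 * 200) 200 = true := by decide +kernel
theorem ck117 : rangeAll (chkAtT pt 12 tb RJ) (117 * 200) 200 = true := by decide +kernel
theorem ck118 : rangeAll (chkAtT pt 12 tb RJ) (118 * 200) 200 = true := by decide +kernel
theorem ck119 : rangeAll (chkAtT pt 12 tb RJ) (119 * 200) 200 = true := by decide +kernel
theorem ck120 : rangeAll (chkAtT pt 12 tb RJ) (120 * 200) 200 = true := by decide +kernel
theorem ck121 : rangeAll (chkAtT pt 12 tb RJ) (121 * 200) 200 = true := by decide +kernel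
theorem ck122 : rangeAll (chkAtT pt 12 tb RJ) (122 * 200) 200 = true := by decide +kernel
theorem ck123 : rangeAll (chkAtT pt 12 tb RJ) (123 * 200) 200 = true := by decide +kernel
theorem ck124 : rangeAll (chkAtT pt 12 tb RJ) (124 * 200) 200 = true := by decide +kernel
theorem ck125 : rangeAll (chkAtT pt 12 tb RJ) (125 * 200) 200 = true := by decide +kernel
theorem ck126 : rangeAll (chkAtT pt 12 tb RJ) (126 * 200) 200 = true := by decide +kernel
theorem ck127 : rangeAll (chkAtT pt 12 tb RJ) (127 * 200) 200 = true := by decide +kernel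
theorem ck128 : rangeAll (chkAtT pt 12 tb RJ) (128 * 200) 200 = true := by decide +kernel
theorem ck129 : rangeAll (chkAtT pt 12 tb RJ) (129 * 200) 200 = true := by decide +kernel

end Cfsg.Agent.Lib.Schur.Cover.Fi24T
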