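import Cfsg.Agent.Lib.Schur.Cover.Fi24T.Tab
import Cfsg.Agent.Lib.TC.G.Fi24

set_option autoImplicit false
set_option maxRecDepth 100000
set_option maxHeartbeats 0
set_option Elab.async false

namespace Cfsg.Agent.Lib.Schur.Cover.Fi24T

open Cfsg.Agent.Lib.Schur.CoverTw Cfsg.Agent.Lib.PermComp.Kron
open Cfsg.Agent.Lib.TC.D.Fi24a.Tab (pt)

theorem ck650 : rangeAll (chkAtT pt 12 tb RJ) (650 * 200) 200 = true := by decide +kernel
theorem ck651 : rangeAll (chkAtT pt 12 tb RJ) (651 * 200) 200 = true := by decide +kernel
theorem ck652 : rangeAll (chkAtT pt 12 tb RJ) (652 * 200) 200 = true := by decide +kernel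
theorem ck653 : rangeAll (chkAtT pt 12 tb RJ) (653 * 200) 200 = true := by decide +kernel
theorem ck654 : rangeAll (chkAtT pt 12 tb RJ) (654 * 200) 200 = true := by decide +kernel
theorem ck655 : rangeAll (chkAtT pt 12 tb RJ) (655 * 200) 200 = true := by decide +kernel
theorem ck656 : rangeAll (chkAtT pt 12 tb RJ) (656 * 200) 200 = true := by decide +kernel
theorem ck657 : rangeAll (chkAtT pt 12 tb RJ) (657 * 200) 200 = true := by decide +kernel
theorem ck658 : rangeAll (chkAtT pt 12 tb RJ) (658 * 200) 200 = true := by decide +kernel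
theorem ck659 : rangeAll (chkAtT pt 12 tb RJ) (659 * 200) 200 = true := by decide +kernel
theorem ck660 : rangeAll (chkAtT pt 12 tb RJ) (660 * 200) 200 = true := by decide +kernel
theorem ck661 : rangeAll (chkAtT pt 12 tb RJ) (661 * 200) 200 = true := by decide +kernel
theorem ck662 : rangeAll (chkAtT pt 12 tb RJ) (662 * 200) 200 = true := by decide +kernel
theorem ck663 : rangeAll (chkAtT pt 12 tb RJ) (663 * 200) 200 = true := by decide +kernel
theorem ck664 : rangeAll (chkAtT pt 12 tb RJ) (664 * 200) 200 = true := by decide +kernel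
theorem ck665 : rangeAll (chkAtT pt 12 tb RJ) (665 * 200) 200 = true := by decide +kernel
theorem ck666 : rangeAll (chkAtT pt 12 tb RJ) (666 * 200) 200 = true := by decide +kernel
theorem ck667 : rangeAll (chkAtT pt 12 tb RJ) (667 * 200) 200 = true := by decide +kernel
theorem ck668 : rangeAll (chkAtT pt 12 tb RJ) (668 * 200) 200 = true := by decide +kernel
theorem ck669 : rangeAll (chkAtT pt 12 tb RJ) (669 * 200) 200 = true := by decide +kernel
theorem ck670 : rangeAll (chkAtT pt 12 tb RJ) (670 * 200) 200 = true := by decide +kernel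
theorem ck671 : rangeAll (chkAtT pt 12 tb RJ) (671 * 200) 200 = true := by decide +kernel
theorem ck672 : rangeAll (chkAtT pt 12 tb RJ) (672 * 200) 200 = true := by decide +kernel
theorem ck673 : rangeAll (chkAtT pt 12 tb RJ) (673 * 200) 200 = true := by decide +kernel
theorem ck674 : rangeAll (chkAtT pt 12 tb RJ) (674 * 200) 200 = true := by decide +kernel
theorem ck675 : rangeAll (chkAtT pt 12 tb RJ) (675 * 200) 200 = true := by decide +kernel
theorem ck676 : rangeAll (chkAtT pt 12 tb RJ) (676 * 200) 200 = true := by decide +kernel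
theorem ck677 : rangeAll (chkAtT pt 12 tb RJ) (677 * 200) 200 = true := by decide +kernel
theorem ck678 : rangeAll (chkAtT pt 12 tb RJ) (678 * 200) 200 = true := by decide +kernel
theorem ck679 : rangeAll (chkAtT pt 12 tb RJ) (679 * 200) 200 = true := by decide +kernel
theorem ck680 : rangeAll (chkAtT pt 12 tb RJ) (680 * 200) 200 = true := by decide +kernel
theorem ck681 : rangeAll (chkAtT pt 12 tb RJ) (681 * 200) 200 = true := by decide +kernel
theorem ck682 : rangeAll (chkAtT pt 12 tb RJ) (682 * 200) 200 = true := by decide +kernel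
theorem ck683 : rangeAll (chkAtT pt 12 tb RJ) (683 * 200) 200 = true := by decide +kernel
theorem ck684 : rangeAll (chkAtT pt 12 tb RJ) (684 * 200) 200 = true := by decide +kernel
theorem ck685 : rangeAll (chkAtT pt 12 tb RJ) (685 * 200) 200 = true := by decide +kernel
theorem ck686 : rangeAll (chkAtT pt 12 tb RJ) (686 * 200) 200 = true := by decide +kernel
theorem ck687 : rangeAll (chkAtT pt 12 tb RJ) (687 * 200) 200 = true := by decide +kernel
theorem ck688 : rangeAll (chkAtT pt 12 tb RJ) (688 * 200) 200 = true := by decide +kernel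
theorem ck689 : rangeAll (chkAtT pt 12 tb RJ) (689 * 200) 200 = true := by decide +kernel
theorem ck690 : rangeAll (chkAtT pt 12 tb RJ) (690 * 200) 200 = true := by decide +kernel
theorem ck691 : rangeAll (chkAtT pt 12 tb RJ) (691 * 200) 200 = true := by decide +kernel
theorem ck692 : rangeAll (chkAtT pt 12 tb RJ) (692 * 200) 200 = true := by decide +kernel
theorem ck693 : rangeAll (chkAtT pt 12 tb RJ) (693 * 200) 200 = true := by decide +kernel
theorem ck694 : rangeAll (chkAtT pt 12 tb RJ) (694 * 200) 200 = true := by decide +kernel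
theorem ck695 : rangeAll (chkAtT pt 12 tb RJ) (695 * 200) 200 = true := by decide +kernel
theorem ck696 : rangeAll (chkAtT pt 12 tb RJ) (696 * 200) 200 = true := by decide +kernel
theorem ck697 : rangeAll (chkAtT pt 12 tb RJ) (697 * 200) 200 = true := by decide +kernel
theorem ck698 : rangeAll (chkAtT pt 12 tb RJ) (698 * 200) 200 = true := by decide +kernel
theorem ck699 : rangeAll (chkAtT pt 12 tb RJ) (699 * 200) 200 = true := by decide +kernel
theorem ck700 : rangeAll (chkAtT pt 12 tb RJ) (700 * 200) 200 = true := by decide +kernel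
theorem ck701 : rangeAll (chkAtT pt 12 tb RJ) (701 * 200) 200 = true := by decide +kernel
theorem ck702 : rangeAll (chkAtT pt 12 tb RJ) (702 * 200) 200 = true := by decide +kernel
theorem ck703 : rangeAll (chkAtT pt 12 tb RJ) (703 * 200) 200 = true := by decide +kernel
theorem ck704 : rangeAll (chkAtT pt 12 tb RJ) (704 * 200) 200 = true := by decide +kernel
theorem ck705 : rangeAll (chkAtT pt 12 tb RJ) (705 * 200) 200 = true := by decide +kernel
theorem ck706 : rangeAll (chkAtT pt 12 tb RJ) (706 * 200) 200 = true := by decide +kernel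
theorem ck707 : rangeAll (chkAtT pt 12 tb RJ) (707 * 200) 200 = true := by decide +kernel
theorem ck708 : rangeAll (chkAtT pt 12 tb RJ) (708 * 200) 200 = true := by decide +kernel
theorem ck709 : rangeAll (chkAtT pt 12 tb RJ) (709 * 200) 200 = true := by decide +kernel
theorem ck710 : rangeAll (chkAtT pt 12 tb RJ) (710 * 200) 200 = true := by decide +kernel
theorem ck711 : rangeAll (chkAtT pt 12 tb RJ) (711 * 200) 200 = true := by decide +kernel
theorem ck712 : rangeAll (chkAtT pt 12 tb RJ) (712 * 200) 200 = true := by decide +kernel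
theorem ck713 : rangeAll (chkAtT pt 12 tb RJ) (713 * 200) 200 = true := by decide +kernel
theorem ck714 : rangeAll (chkAtT pt 12 tb RJ) (714 * 200) 200 = true := by decide +kernel

end Cfsg.Agent.Lib.Schur.Cover.Fi24T
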