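import Cfsg.Agent.Lib.Schur.Cover.Fi24T.Tab
import Cfsg.Agent.Lib.TC.G.Fi24

set_option autoImplicit false
set_option maxRecDepth 100000
set_option maxHeartbeats 0
set_option Elab.async false

namespace Cfsg.Agent.Lib.Schur.Cover.Fi24T

open Cfsg.Agent.Lib.Schur.CoverTw Cfsg.Agent.Lib.PermComp.Kron
open Cfsg.Agent.Lib.TC.D.Fi24a.Tab (pt)

theorem ck715 : rangeAll (chkAtT pt 12 tb RJ) (715 * 200) 200 = true := by decide +kernel
theorem ck716 : rangeAll (chkAtT pt 12 tb RJ) (716 * 200) 200 = true := by decide +kernel
theorem ck717 : rangeAll (chkAtT pt 12 tb RJ) (717 * 200) 200 = true := by decide +kernel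
theorem ck718 : rangeAll (chkAtT pt 12 tb RJ) (718 * 200) 200 = true := by decide +kernel
theorem ck719 : rangeAll (chkAtT pt 12 tb RJ) (719 * 200) 200 = true := by decide +kernel
theorem ck720 : rangeAll (chkAtT pt 12 tb RJ) (720 * 200) 200 = true := by decide +kernel
theorem ck721 : rangeAll (chkAtT pt 12 tb RJ) (721 * 200) 200 = true := by decide +kernel
theorem ck722 : rangeAll (chkAtT pt 12 tb RJ) (722 * 200) 200 = true := by decide +kernel
theorem ck723 : rangeAll (chkAtT pt 12 tb RJ) (723 * 200) 200 = true := by decide +kernel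
theorem ck724 : rangeAll (chkAtT pt 12 tb RJ) (724 * 200) 200 = true := by decide +kernel
theorem ck725 : rangeAll (chkAtT pt 12 tb RJ) (725 * 200) 200 = true := by decide +kernel
theorem ck726 : rangeAll (chkAtT pt 12 tb RJ) (726 * 200) 200 = true := by decide +kernel
theorem ck727 : rangeAll (chkAtT pt 12 tb RJ) (727 * 200) 200 = true := by decide +kernel
theorem ck728 : rangeAll (chkAtT pt 12 tb RJ) (728 * 200) 200 = true := by decide +kernel
theorem ck729 : rangeAll (chkAtT pt 12 tb RJ) (729 * 200) 200 = true := by decide +kernel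
theorem ck730 : rangeAll (chkAtT pt 12 tb RJ) (730 * 200) 200 = true := by decide +kernel
theorem ck731 : rangeAll (chkAtT pt 12 tb RJ) (731 * 200) 200 = true := by decide +kernel
theorem ck732 : rangeAll (chkAtT pt 12 tb RJ) (732 * 200) 200 = true := by decide +kernel
theorem ck733 : rangeAll (chkAtT pt 12 tb RJ) (733 * 200) 200 = true := by decide +kernel
theorem ck734 : rangeAll (chkAtT pt 12 tb RJ) (734 * 200) 200 = true := by decide +kernel
theorem ck735 : rangeAll (chkAtT pt 12 tb RJ) (735 * 200) 200 = true := by decide +kernel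
theorem ck736 : rangeAll (chkAtT pt 12 tb RJ) (736 * 200) 200 = true := by decide +kernel
theorem ck737 : rangeAll (chkAtT pt 12 tb RJ) (737 * 200) 200 = true := by decide +kernel
theorem ck738 : rangeAll (chkAtT pt 12 tb RJ) (738 * 200) 200 = true := by decide +kernel
theorem ck739 : rangeAll (chkAtT pt 12 tb RJ) (739 * 200) 200 = true := by decide +kernel
theorem ck740 : rangeAll (chkAtT pt 12 tb RJ) (740 * 200) 200 = true := by decide +kernel
theorem ck741 : rangeAll (chkAtT pt 12 tb RJ) (741 * 200) 200 = true := by decide +kernel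
theorem ck742 : rangeAll (chkAtT pt 12 tb RJ) (742 * 200) 200 = true := by decide +kernel
theorem ck743 : rangeAll (chkAtT pt 12 tb RJ) (743 * 200) 200 = true := by decide +kernel
theorem ck744 : rangeAll (chkAtT pt 12 tb RJ) (744 * 200) 200 = true := by decide +kernel
theorem ck745 : rangeAll (chkAtT pt 12 tb RJ) (745 * 200) 200 = true := by decide +kernel
theorem ck746 : rangeAll (chkAtT pt 12 tb RJ) (746 * 200) 200 = true := by decide +kernel
theorem ck747 : rangeAll (chkAtT pt 12 tb RJ) (747 * 200) 200 = true := by decide +kernel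
theorem ck748 : rangeAll (chkAtT pt 12 tb RJ) (748 * 200) 200 = true := by decide +kernel
theorem ck749 : rangeAll (chkAtT pt 12 tb RJ) (749 * 200) 200 = true := by decide +kernel
theorem ck750 : rangeAll (chkAtT pt 12 tb RJ) (750 * 200) 200 = true := by decide +kernel
theorem ck751 : rangeAll (chkAtT pt 12 tb RJ) (751 * 200) 200 = true := by decide +kernel
theorem ck752 : rangeAll (chkAtT pt 12 tb RJ) (752 * 200) 200 = true := by decide +kernel
theorem ck753 : rangeAll (chkAtT pt 12 tb RJ) (753 * 200) 200 = true := by decide +kernel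
theorem ck754 : rangeAll (chkAtT pt 12 tb RJ) (754 * 200) 200 = true := by decide +kernel
theorem ck755 : rangeAll (chkAtT pt 12 tb RJ) (755 * 200) 200 = true := by decide +kernel
theorem ck756 : rangeAll (chkAtT pt 12 tb RJ) (756 * 200) 200 = true := by decide +kernel
theorem ck757 : rangeAll (chkAtT pt 12 tb RJ) (757 * 200) 200 = true := by decide +kernel
theorem ck758 : rangeAll (chkAtT pt 12 tb RJ) (758 * 200) 200 = true := by decide +kernel
theorem ck759 : rangeAll (chkAtT pt 12 tb RJ) (759 * 200) 200 = true := by decide +kernel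
theorem ck760 : rangeAll (chkAtT pt 12 tb RJ) (760 * 200) 200 = true := by decide +kernel
theorem ck761 : rangeAll (chkAtT pt 12 tb RJ) (761 * 200) 200 = true := by decide +kernel
theorem ck762 : rangeAll (chkAtT pt 12 tb RJ) (762 * 200) 200 = true := by decide +kernel
theorem ck763 : rangeAll (chkAtT pt 12 tb RJ) (763 * 200) 200 = true := by decide +kernel
theorem ck764 : rangeAll (chkAtT pt 12 tb RJ) (764 * 200) 200 = true := by decide +kernel
theorem ck765 : rangeAll (chkAtT pt 12 tb RJ) (765 * 200) 200 = true := by decide +kernel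
theorem ck766 : rangeAll (chkAtT pt 12 tb RJ) (766 * 200) 200 = true := by decide +kernel
theorem ck767 : rangeAll (chkAtT pt 12 tb RJ) (767 * 200) 200 = true := by decide +kernel
theorem ck768 : rangeAll (chkAtT pt 12 tb RJ) (768 * 200) 200 = true := by decide +kernel
theorem ck769 : rangeAll (chkAtT pt 12 tb RJ) (769 * 200) 200 = true := by decide +kernel
theorem ck770 : rangeAll (chkAtT pt 12 tb RJ) (770 * 200) 200 = true := by decide +kernel
theorem ck771 : rangeAll (chkAtT pt 12 tb RJ) (771 * 200) 200 = true := by decide +kernel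
theorem ck772 : rangeAll (chkAtT pt 12 tb RJ) (772 * 200) 200 = true := by decide +kernel
theorem ck773 : rangeAll (chkAtT pt 12 tb RJ) (773 * 200) 200 = true := by decide +kernel
theorem ck774 : rangeAll (chkAtT pt 12 tb RJ) (774 * 200) 200 = true := by decide +kernel
theorem ck775 : rangeAll (chkAtT pt 12 tb RJ) (775 * 200) 200 = true := by decide +kernel
theorem ck776 : rangeAll (chkAtT pt 12 tb RJ) (776 * 200) 200 = true := by decide +kernel
theorem ck777 : rangeAll (chkAtT pt 12 tb RJ) (777 * 200) 200 = true := by decide +kernel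
theorem ck778 : rangeAll (chkAtT pt 12 tb RJ) (778 * 200) 200 = true := by decide +kernel
theorem ck779 : rangeAll (chkAtT pt 12 tb RJ) (779 * 200) 200 = true := by decide +kernel

end Cfsg.Agent.Lib.Schur.Cover.Fi24T
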