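import Cfsg.Agent.Lib.Schur.Cover.Fi24T.Tab
import Cfsg.Agent.Lib.TC.G.Fi24

set_option autoImplicit false
set_option maxRecDepth 100000
set_option maxHeartbeats 0
set_option Elab.async false

namespace Cfsg.Agent.Lib.Schur.Cover.Fi24T

open Cfsg.Agent.Lib.Schur.CoverTw Cfsg.Agent.Lib.PermComp.Kron
open Cfsg.Agent.Lib.TC.D.Fi24a.Tab (pt)

theorem ck845 : rangeAll (chkAtT pt 12 tb RJ) (845 * 200) 200 = true := by decide +kernel
theorem ck846 : rangeAll (chkAtT pt 12 tb RJ) (846 * 200) 200 = true := by decide +kernel
theorem ck847 : rangeAll (chkAtT pt 12 tb RJ) (847 * 200) 200 = true := by decide +kernel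
theorem ck848 : rangeAll (chkAtT pt 12 tb RJ) (848 * 200) 200 = true := by decide +kernel
theorem ck849 : rangeAll (chkAtT pt 12 tb RJ) (849 * 200) 200 = true := by decide +kernel
theorem ck850 : rangeAll (chkAtT pt 12 tb RJ) (850 * 200) 200 = true := by decide +kernel
theorem ck851 : rangeAll (chkAtT pt 12 tb RJ) (851 * 200) 200 = true := by decide +kernel
theorem ck852 : rangeAll (chkAtT pt 12 tb RJ) (852 * 200) 200 = true := by decide +kernel
theorem ck853 : rangeAll (chkAtT pt 12 tb RJ) (853 * 200) 200 = true := by decide +kernel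
theorem ck854 : rangeAll (chkAtT pt 12 tb RJ) (854 * 200) 200 = true := by decide +kernel
theorem ck855 : rangeAll (chkAtT pt 12 tb RJ) (855 * 200) 200 = true := by decide +kernel
theorem ck856 : rangeAll (chkAtT pt 12 tb RJ) (856 * 200) 200 = true := by decide +kernel
theorem ck857 : rangeAll (chkAtT pt 12 tb RJ) (857 * 200) 200 = true := by decide +kernel
theorem ck858 : rangeAll (chkAtT pt 12 tb RJ) (858 * 200) 200 = true := by decide +kernel
theorem ck859 : rangeAll (chkAtT pt 12 tb RJ) (859 * 200) 200 = true := by decide +kernel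
theorem ck860 : rangeAll (chkAtT pt 12 tb RJ) (860 * 200) 200 = true := by decide +kernel
theorem ck861 : rangeAll (chkAtT pt 12 tb RJ) (861 * 200) 200 = true := by decide +kernel
theorem ck862 : rangeAll (chkAtT pt 12 tb RJ) (862 * 200) 200 = true := by decide +kernel
theorem ck863 : rangeAll (chkAtT pt 12 tb RJ) (863 * 200) 200 = true := by decide +kernel
theorem ck864 : rangeAll (chkAtT pt 12 tb RJ) (864 * 200) 200 = true := by decide +kernel
theorem ck865 : rangeAll (chkAtT pt 12 tb RJ) (865 * 200) 200 = true := by decide +kernel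
theorem ck866 : rangeAll (chkAtT pt 12 tb RJ) (866 * 200) 200 = true := by decide +kernel
theorem ck867 : rangeAll (chkAtT pt 12 tb RJ) (867 * 200) 200 = true := by decide +kernel
theorem ck868 : rangeAll (chkAtT pt 12 tb RJ) (868 * 200) 200 = true := by decide +kernel
theorem ck869 : rangeAll (chkAtT pt 12 tb RJ) (869 * 200) 200 = true := by decide +kernel
theorem ck870 : rangeAll (chkAtT pt 12 tb RJ) (870 * 200) 200 = true := by decide +kernel
theorem ck871 : rangeAll (chkAtT pt 12 tb RJ) (871 * 200) 200 = true := by decide +kernel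
theorem ck872 : rangeAll (chkAtT pt 12 tb RJ) (872 * 200) 200 = true := by decide +kernel
theorem ck873 : rangeAll (chkAtT pt 12 tb RJ) (873 * 200) 200 = true := by decide +kernel
theorem ck874 : rangeAll (chkAtT pt 12 tb RJ) (874 * 200) 200 = true := by decide +kernel
theorem ck875 : rangeAll (chkAtT pt 12 tb RJ) (875 * 200) 200 = true := by decide +kernel
theorem ck876 : rangeAll (chkAtT pt 12 tb RJ) (876 * 200) 200 = true := by decide +kernel
theorem ck877 : rangeAll (chkAtT pt 12 tb RJ) (877 * 200) 200 = true := by decide +kernel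
theorem ck878 : rangeAll (chkAtT pt 12 tb RJ) (878 * 200) 200 = true := by decide +kernel
theorem ck879 : rangeAll (chkAtT pt 12 tb RJ) (879 * 200) 200 = true := by decide +kernel
theorem ck880 : rangeAll (chkAtT pt 12 tb RJ) (880 * 200) 200 = true := by decide +kernel
theorem ck881 : rangeAll (chkAtT pt 12 tb RJ) (881 * 200) 200 = true := by decide +kernel
theorem ck882 : rangeAll (chkAtT pt 12 tb RJ) (882 * 200) 200 = true := by decide +kernel
theorem ck883 : rangeAll (chkAtT pt 12 tb RJ) (883 * 200) 200 = true := by decide +kernel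
theorem ck884 : rangeAll (chkAtT pt 12 tb RJ) (884 * 200) 200 = true := by decide +kernel
theorem ck885 : rangeAll (chkAtT pt 12 tb RJ) (885 * 200) 200 = true := by decide +kernel
theorem ck886 : rangeAll (chkAtT pt 12 tb RJ) (886 * 200) 200 = true := by decide +kernel
theorem ck887 : rangeAll (chkAtT pt 12 tb RJ) (887 * 200) 200 = true := by decide +kernel
theorem ck888 : rangeAll (chkAtT pt 12 tb RJ) (888 * 200) 200 = true := by decide +kernel
theorem ck889 : rangeAll (chkAtT pt 12 tb RJ) (889 * 200) 200 = true := by decide +kernel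
theorem ck890 : rangeAll (chkAtT pt 12 tb RJ) (890 * 200) 200 = true := by decide +kernel
theorem ck891 : rangeAll (chkAtT pt 12 tb RJ) (891 * 200) 200 = true := by decide +kernel
theorem ck892 : rangeAll (chkAtT pt 12 tb RJ) (892 * 200) 200 = true := by decide +kernel
theorem ck893 : rangeAll (chkAtT pt 12 tb RJ) (893 * 200) 200 = true := by decide +kernel
theorem ck894 : rangeAll (chkAtT pt 12 tb RJ) (894 * 200) 200 = true := by decide +kernel
theorem ck895 : rangeAll (chkAtT pt 12 tb RJ) (895 * 200) 200 = true := by decide +kernel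
theorem ck896 : rangeAll (chkAtT pt 12 tb RJ) (896 * 200) 200 = true := by decide +kernel
theorem ck897 : rangeAll (chkAtT pt 12 tb RJ) (897 * 200) 200 = true := by decide +kernel
theorem ck898 : rangeAll (chkAtT pt 12 tb RJ) (898 * 200) 200 = true := by decide +kernel
theorem ck899 : rangeAll (chkAtT pt 12 tb RJ) (899 * 200) 200 = true := by decide +kernel
theorem ck900 : rangeAll (chkAtT pt 12 tb RJ) (900 * 200) 200 = true := by decide +kernel
theorem ck901 : rangeAll (chkAtT pt 12 tb RJ) (901 * 200) 200 = true := by decide +kernel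
theorem ck902 : rangeAll (chkAtT pt 12 tb RJ) (902 * 200) 200 = true := by decide +kernel
theorem ck903 : rangeAll (chkAtT pt 12 tb RJ) (903 * 200) 200 = true := by decide +kernel
theorem ck904 : rangeAll (chkAtT pt 12 tb RJ) (904 * 200) 200 = true := by decide +kernel
theorem ck905 : rangeAll (chkAtT pt 12 tb RJ) (905 * 200) 200 = true := by decide +kernel
theorem ck906 : rangeAll (chkAtT pt 12 tb RJ) (906 * 200) 200 = true := by decide +kernel
theorem ck907 : rangeAll (chkAtT pt 12 tb RJ) (907 * 200) 200 = true := by decide +kernel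
theorem ck908 : rangeAll (chkAtT pt 12 tb RJ) (908 * 200) 200 = true := by decide +kernel
theorem ck909 : rangeAll (chkAtT pt 12 tb RJ) (909 * 200) 200 = true := by decide +kernel

end Cfsg.Agent.Lib.Schur.Cover.Fi24T
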