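import Cfsg.Agent.Lib.Schur.Cover.Fi24T.Tab
import Cfsg.Agent.Lib.TC.G.Fi24

set_option autoImplicit false
set_option maxRecDepth 100000
set_option maxHeartbeats 0
set_option Elab.async false

namespace Cfsg.Agent.Lib.Schur.Cover.Fi24T

open Cfsg.Agent.Lib.Schur.CoverTw Cfsg.Agent.Lib.PermComp.Kron
open Cfsg.Agent.Lib.TC.D.Fi24a.Tab (pt)

theorem ck910 : rangeAll (chkAtT pt 12 tb RJ) (910 * 200) 200 = true := by decide +kernel
theorem ck911 : rangeAll (chkAtT pt 12 tb RJ) (911 * 200) 200 = true := by decide +kernel
theorem ck912 : rangeAll (chkAtT pt 12 tb RJ) (912 * 200) 200 = true := by decide +kernel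
theorem ck913 : rangeAll (chkAtT pt 12 tb RJ) (913 * 200) 200 = true := by decide +kernel
theorem ck914 : rangeAll (chkAtT pt 12 tb RJ) (914 * 200) 200 = true := by decide +kernel
theorem ck915 : rangeAll (chkAtT pt 12 tb RJ) (915 * 200) 200 = true := by decide +kernel
theorem ck916 : rangeAll (chkAtT pt 12 tb RJ) (916 * 200) 200 = true := by decide +kernel
theorem ck917 : rangeAll (chkAtT pt 12 tb RJ) (917 * 200) 200 = true := by decide +kernel
theorem ck918 : rangeAll (chkAtT pt 12 tb RJ) (918 * 200) 200 = true := by decide +kernel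
theorem ck919 : rangeAll (chkAtT pt 12 tb RJ) (919 * 200) 200 = true := by decide +kernel
theorem ck920 : rangeAll (chkAtT pt 12 tb RJ) (920 * 200) 200 = true := by decide +kernel
theorem ck921 : rangeAll (chkAtT pt 12 tb RJ) (921 * 200) 200 = true := by decide +kernel
theorem ck922 : rangeAll (chkAtT pt 12 tb RJ) (922 * 200) 200 = true := by decide +kernel
theorem ck923 : rangeAll (chkAtT pt 12 tb RJ) (923 * 200) 200 = true := by decide +kernel
theorem ck924 : rangeAll (chkAtT pt 12 tb RJ) (924 * 200) 200 = true := by decide +kernel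
theorem ck925 : rangeAll (chkAtT pt 12 tb RJ) (925 * 200) 200 = true := by decide +kernel
theorem ck926 : rangeAll (chkAtT pt 12 tb RJ) (926 * 200) 200 = true := by decide +kernel
theorem ck927 : rangeAll (chkAtT pt 12 tb RJ) (927 * 200) 200 = true := by decide +kernel
theorem ck928 : rangeAll (chkAtT pt 12 tb RJ) (928 * 200) 200 = true := by decide +kernel
theorem ck929 : rangeAll (chkAtT pt 12 tb RJ) (929 * 200) 200 = true := by decide +kernel
theorem ck930 : rangeAll (chkAtT pt 12 tb RJ) (930 * 200) 200 = true := by decide +kernel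
theorem ck931 : rangeAll (chkAtT pt 12 tb RJ) (931 * 200) 200 = true := by decide +kernel
theorem ck932 : rangeAll (chkAtT pt 12 tb RJ) (932 * 200) 200 = true := by decide +kernel
theorem ck933 : rangeAll (chkAtT pt 12 tb RJ) (933 * 200) 200 = true := by decide +kernel
theorem ck934 : rangeAll (chkAtT pt 12 tb RJ) (934 * 200) 200 = true := by decide +kernel
theorem ck935 : rangeAll (chkAtT pt 12 tb RJ) (935 * 200) 200 = true := by decide +kernel
theorem ck936 : rangeAll (chkAtT pt 12 tb RJ) (936 * 200) 200 = true := by decide +kernel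
theorem ck937 : rangeAll (chkAtT pt 12 tb RJ) (937 * 200) 200 = true := by decide +kernel
theorem ck938 : rangeAll (chkAtT pt 12 tb RJ) (938 * 200) 200 = true := by decide +kernel
theorem ck939 : rangeAll (chkAtT pt 12 tb RJ) (939 * 200) 200 = true := by decide +kernel
theorem ck940 : rangeAll (chkAtT pt 12 tb RJ) (940 * 200) 200 = true := by decide +kernel
theorem ck941 : rangeAll (chkAtT pt 12 tb RJ) (941 * 200) 200 = true := by decide +kernel
theorem ck942 : rangeAll (chkAtT pt 12 tb RJ) (942 * 200) 200 = true := by decide +kernel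
theorem ck943 : rangeAll (chkAtT pt 12 tb RJ) (943 * 200) 200 = true := by decide +kernel
theorem ck944 : rangeAll (chkAtT pt 12 tb RJ) (944 * 200) 200 = true := by decide +kernel
theorem ck945 : rangeAll (chkAtT pt 12 tb RJ) (945 * 200) 200 = true := by decide +kernel
theorem ck946 : rangeAll (chkAtT pt 12 tb RJ) (946 * 200) 200 = true := by decide +kernel
theorem ck947 : rangeAll (chkAtT pt 12 tb RJ) (947 * 200) 200 = true := by decide +kernel
theorem ck948 : rangeAll (chkAtT pt 12 tb RJ) (948 * 200) 200 = true := by decide +kernel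
theorem ck949 : rangeAll (chkAtT pt 12 tb RJ) (949 * 200) 200 = true := by decide +kernel
theorem ck950 : rangeAll (chkAtT pt 12 tb RJ) (950 * 200) 200 = true := by decide +kernel
theorem ck951 : rangeAll (chkAtT pt 12 tb RJ) (951 * 200) 200 = true := by decide +kernel
theorem ck952 : rangeAll (chkAtT pt 12 tb RJ) (952 * 200) 200 = true := by decide +kernel
theorem ck953 : rangeAll (chkAtT pt 12 tb RJ) (953 * 200) 200 = true := by decide +kernel
theorem ck954 : rangeAll (chkAtT pt 12 tb RJ) (954 * 200) 200 = true := by decide +kernel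
theorem ck955 : rangeAll (chkAtT pt 12 tb RJ) (955 * 200) 200 = true := by decide +kernel
theorem ck956 : rangeAll (chkAtT pt 12 tb RJ) (956 * 200) 200 = true := by decide +kernel
theorem ck957 : rangeAll (chkAtT pt 12 tb RJ) (957 * 200) 200 = true := by decide +kernel
theorem ck958 : rangeAll (chkAtT pt 12 tb RJ) (958 * 200) 200 = true := by decide +kernel
theorem ck959 : rangeAll (chkAtT pt 12 tb RJ) (959 * 200) 200 = true := by decide +kernel
theorem ck960 : rangeAll (chkAtT pt 12 tb RJ) (960 * 200) 200 = true := by decide +kernel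
theorem ck961 : rangeAll (chkAtT pt 12 tb RJ) (961 * 200) 200 = true := by decide +kernel
theorem ck962 : rangeAll (chkAtT pt 12 tb RJ) (962 * 200) 200 = true := by decide +kernel
theorem ck963 : rangeAll (chkAtT pt 12 tb RJ) (963 * 200) 200 = true := by decide +kernel
theorem ck964 : rangeAll (chkAtT pt 12 tb RJ) (964 * 200) 200 = true := by decide +kernel
theorem ck965 : rangeAll (chkAtT pt 12 tb RJ) (965 * 200) 200 = true := by decide +kernel
theorem ck966 : rangeAll (chkAtT pt 12 tb RJ) (966 * 200) 200 = true := by decide +kernel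
theorem ck967 : rangeAll (chkAtT pt 12 tb RJ) (967 * 200) 200 = true := by decide +kernel
theorem ck968 : rangeAll (chkAtT pt 12 tb RJ) (968 * 200) 200 = true := by decide +kernel
theorem ck969 : rangeAll (chkAtT pt 12 tb RJ) (969 * 200) 200 = true := by decide +kernel
theorem ck970 : rangeAll (chkAtT pt 12 tb RJ) (970 * 200) 200 = true := by decide +kernel
theorem ck971 : rangeAll (chkAtT pt 12 tb RJ) (971 * 200) 200 = true := by decide +kernel
theorem ck972 : rangeAll (chkAtT pt 12 tb RJ) (972 * 200) 200 = true := by decide +kernel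
theorem ck973 : rangeAll (chkAtT pt 12 tb RJ) (973 * 200) 200 = true := by decide +kernel
theorem ck974 : rangeAll (chkAtT pt 12 tb RJ) (974 * 200) 200 = true := by decide +kernel

end Cfsg.Agent.Lib.Schur.Cover.Fi24T
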