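import Cfsg.Agent.Lib.Schur.Cover.Fi24T.Tab
import Cfsg.Agent.Lib.TC.G.Fi24

set_option autoImplicit false
set_option maxRecDepth 100000
set_option maxHeartbeats 0
set_option Elab.async false

namespace Cfsg.Agent.Lib.Schur.Cover.Fi24T

open Cfsg.Agent.Lib.Schur.CoverTw Cfsg.Agent.Lib.PermComp.Kron
open Cfsg.Agent.Lib.TC.D.Fi24a.Tab (pt)

theorem ck975 : rangeAll (chkAtT pt 12 tb RJ) (975 * 200) 200 = true := by decide +kernel
theorem ck976 : rangeAll (chkAtT pt 12 tb RJ) (976 * 200) 200 = true := by decide +kernel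
theorem ck977 : rangeAll (chkAtT pt 12 tb RJ) (977 * 200) 200 = true := by decide +kernel
theorem ck978 : rangeAll (chkAtT pt 12 tb RJ) (978 * 200) 200 = true := by decide +kernel
theorem ck979 : rangeAll (chkAtT pt 12 tb RJ) (979 * 200) 200 = true := by decide +kernel
theorem ck980 : rangeAll (chkAtT pt 12 tb RJ) (980 * 200) 200 = true := by decide +kernel
theorem ck981 : rangeAll (chkAtT pt 12 tb RJ) (981 * 200) 200 = true := by decide +kernel
theorem ck982 : rangeAll (chkAtT pt 12 tb RJ) (982 * 200) 200 = true := by decide +kernel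
theorem ck983 : rangeAll (chkAtT pt 12 tb RJ) (983 * 200) 200 = true := by decide +kernel
theorem ck984 : rangeAll (chkAtT pt 12 tb RJ) (984 * 200) 200 = true := by decide +kernel
theorem ck985 : rangeAll (chkAtT pt 12 tb RJ) (985 * 200) 200 = true := by decide +kernel
theorem ck986 : rangeAll (chkAtT pt 12 tb RJ) (986 * 200) 200 = true := by decide +kernel
theorem ck987 : rangeAll (chkAtT pt 12 tb RJ) (987 * 200) 200 = true := by decide +kernel
theorem ck988 : rangeAll (chkAtT pt 12 tb RJ) (988 * 200) 200 = true := by decide +kernel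
theorem ck989 : rangeAll (chkAtT pt 12 tb RJ) (989 * 200) 200 = true := by decide +kernel
theorem ck990 : rangeAll (chkAtT pt 12 tb RJ) (990 * 200) 200 = true := by decide +kernel
theorem ck991 : rangeAll (chkAtT pt 12 tb RJ) (991 * 200) 200 = true := by decide +kernel
theorem ck992 : rangeAll (chkAtT pt 12 tb RJ) (992 * 200) 200 = true := by decide +kernel
theorem ck993 : rangeAll (chkAtT pt 12 tb RJ) (993 * 200) 200 = true := by decide +kernel
theorem ck994 : rangeAll (chkAtT pt 12 tb RJ) (994 * 200) 200 = true := by decide +kernel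
theorem ck995 : rangeAll (chkAtT pt 12 tb RJ) (995 * 200) 200 = true := by decide +kernel
theorem ck996 : rangeAll (chkAtT pt 12 tb RJ) (996 * 200) 200 = true := by decide +kernel
theorem ck997 : rangeAll (chkAtT pt 12 tb RJ) (997 * 200) 200 = true := by decide +kernel
theorem ck998 : rangeAll (chkAtT pt 12 tb RJ) (998 * 200) 200 = true := by decide +kernel
theorem ck999 : rangeAll (chkAtT pt 12 tb RJ) (999 * 200) 200 = true := by decide +kernel
theorem ck1000 : rangeAll (chkAtT pt 12 tb RJ) (1000 * 200) 200 = true := by decide +kernel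
theorem ck1001 : rangeAll (chkAtT pt 12 tb RJ) (1001 * 200) 200 = true := by decide +kernel
theorem ck1002 : rangeAll (chkAtT pt 12 tb RJ) (1002 * 200) 200 = true := by decide +kernel
theorem ck1003 : rangeAll (chkAtT pt 12 tb RJ) (1003 * 200) 200 = true := by decide +kernel
theorem ck1004 : rangeAll (chkAtT pt 12 tb RJ) (1004 * 200) 200 = true := by decide +kernel
theorem ck1005 : rangeAll (chkAtT pt 12 tb RJ) (1005 * 200) 200 = true := by decide +kernel
theorem ck1006 : rangeAll (chkAtT pt 12 tb RJ) (1006 * 200) 200 = true := by decide +kernel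
theorem ck1007 : rangeAll (chkAtT pt 12 tb RJ) (1007 * 200) 200 = true := by decide +kernel
theorem ck1008 : rangeAll (chkAtT pt 12 tb RJ) (1008 * 200) 200 = true := by decide +kernel
theorem ck1009 : rangeAll (chkAtT pt 12 tb RJ) (1009 * 200) 200 = true := by decide +kernel
theorem ck1010 : rangeAll (chkAtT pt 12 tb RJ) (1010 * 200) 200 = true := by decide +kernel
theorem ck1011 : rangeAll (chkAtT pt 12 tb RJ) (1011 * 200) 200 = true := by decide +kernel
theorem ck1012 : rangeAll (chkAtT pt 12 tb RJ) (1012 * 200) 200 = true := by decide +kernel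
theorem ck1013 : rangeAll (chkAtT pt 12 tb RJ) (1013 * 200) 200 = true := by decide +kernel
theorem ck1014 : rangeAll (chkAtT pt 12 tb RJ) (1014 * 200) 200 = true := by decide +kernel
theorem ck1015 : rangeAll (chkAtT pt 12 tb RJ) (1015 * 200) 200 = true := by decide +kernel
theorem ck1016 : rangeAll (chkAtT pt 12 tb RJ) (1016 * 200) 200 = true := by decide +kernel
theorem ck1017 : rangeAll (chkAtT pt 12 tb RJ) (1017 * 200) 200 = true := by decide +kernel
theorem ck1018 : rangeAll (chkAtT pt 12 tb RJ) (1018 * 200) 200 = true := by decide +kernel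
theorem ck1019 : rangeAll (chkAtT pt 12 tb RJ) (1019 * 200) 200 = true := by decide +kernel
theorem ck1020 : rangeAll (chkAtT pt 12 tb RJ) (1020 * 200) 200 = true := by decide +kernel
theorem ck1021 : rangeAll (chkAtT pt 12 tb RJ) (1021 * 200) 200 = true := by decide +kernel
theorem ck1022 : rangeAll (chkAtT pt 12 tb RJ) (1022 * 200) 200 = true := by decide +kernel
theorem ck1023 : rangeAll (chkAtT pt 12 tb RJ) (1023 * 200) 200 = true := by decide +kernel
theorem ck1024 : rangeAll (chkAtT pt 12 tb RJ) (1024 * 200) 200 = true := by decide +kernel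
theorem ck1025 : rangeAll (chkAtT pt 12 tb RJ) (1025 * 200) 200 = true := by decide +kernel
theorem ck1026 : rangeAll (chkAtT pt 12 tb RJ) (1026 * 200) 200 = true := by decide +kernel
theorem ck1027 : rangeAll (chkAtT pt 12 tb RJ) (1027 * 200) 200 = true := by decide +kernel
theorem ck1028 : rangeAll (chkAtT pt 12 tb RJ) (1028 * 200) 200 = true := by decide +kernel
theorem ck1029 : rangeAll (chkAtT pt 12 tb RJ) (1029 * 200) 200 = true := by decide +kernel
theorem ck1030 : rangeAll (chkAtT pt 12 tb RJ) (1030 * 200) 200 = true := by decide +kernel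
theorem ck1031 : rangeAll (chkAtT pt 12 tb RJ) (1031 * 200) 200 = true := by decide +kernel
theorem ck1032 : rangeAll (chkAtT pt 12 tb RJ) (1032 * 200) 200 = true := by decide +kernel
theorem ck1033 : rangeAll (chkAtT pt 12 tb RJ) (1033 * 200) 200 = true := by decide +kernel
theorem ck1034 : rangeAll (chkAtT pt 12 tb RJ) (1034 * 200) 200 = true := by decide +kernel
theorem ck1035 : rangeAll (chkAtT pt 12 tb RJ) (1035 * 200) 200 = true := by decide +kernel
theorem ck1036 : rangeAll (chkAtT pt 12 tb RJ) (1036 * 200) 200 = true := by decide +kernel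
theorem ck1037 : rangeAll (chkAtT pt 12 tb RJ) (1037 * 200) 200 = true := by decide +kernel
theorem ck1038 : rangeAll (chkAtT pt 12 tb RJ) (1038 * 200) 200 = true := by decide +kernel
theorem ck1039 : rangeAll (chkAtT pt 12 tb RJ) (1039 * 200) 200 = true := by decide +kernel

end Cfsg.Agent.Lib.Schur.Cover.Fi24T
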