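import Cfsg.Agent.Lib.Schur.Cover.Fi24T.Tab
import Cfsg.Agent.Lib.TC.G.Fi24

set_option autoImplicit false
set_option maxRecDepth 100000
set_option maxHeartbeats 0
set_option Elab.async false

namespace Cfsg.Agent.Lib.Schur.Cover.Fi24T

open Cfsg.Agent.Lib.Schur.CoverTw Cfsg.Agent.Lib.PermComp.Kron
open Cfsg.Agent.Lib.TC.D.Fi24a.Tab (pt)

theorem ck1040 : rangeAll (chkAtT pt 12 tb RJ) (1040 * 200) 200 = true := by decide +kernel
theorem ck1041 : rangeAll (chkAtT pt 12 tb RJ) (1041 * 200) 200 = true := by decide +kernel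
theorem ck1042 : rangeAll (chkAtT pt 12 tb RJ) (1042 * 200) 200 = true := by decide +kernel
theorem ck1043 : rangeAll (chkAtT pt 12 tb RJ) (1043 * 200) 200 = true := by decide +kernel
theorem ck1044 : rangeAll (chkAtT pt 12 tb RJ) (1044 * 200) 200 = true := by decide +kernel
theorem ck1045 : rangeAll (chkAtT pt 12 tb RJ) (1045 * 200) 200 = true := by decide +kernel
theorem ck1046 : rangeAll (chkAtT pt 12 tb RJ) (1046 * 200) 200 = true := by decide +kernel
theorem ck1047 : rangeAll (chkAtT pt 12 tb RJ) (1047 * 200) 200 = true := by decide +kernel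
theorem ck1048 : rangeAll (chkAtT pt 12 tb RJ) (1048 * 200) 200 = true := by decide +kernel
theorem ck1049 : rangeAll (chkAtT pt 12 tb RJ) (1049 * 200) 200 = true := by decide +kernel
theorem ck1050 : rangeAll (chkAtT pt 12 tb RJ) (1050 * 200) 200 = true := by decide +kernel
theorem ck1051 : rangeAll (chkAtT pt 12 tb RJ) (1051 * 200) 200 = true := by decide +kernel
theorem ck1052 : rangeAll (chkAtT pt 12 tb RJ) (1052 * 200) 200 = true := by decide +kernel
theorem ck1053 : rangeAll (chkAtT pt 12 tb RJ) (1053 * 200) 200 = true := by decide +kernel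
theorem ck1054 : rangeAll (chkAtT pt 12 tb RJ) (1054 * 200) 200 = true := by decide +kernel
theorem ck1055 : rangeAll (chkAtT pt 12 tb RJ) (1055 * 200) 200 = true := by decide +kernel
theorem ck1056 : rangeAll (chkAtT pt 12 tb RJ) (1056 * 200) 200 = true := by decide +kernel
theorem ck1057 : rangeAll (chkAtT pt 12 tb RJ) (1057 * 200) 200 = true := by decide +kernel
theorem ck1058 : rangeAll (chkAtT pt 12 tb RJ) (1058 * 200) 200 = true := by decide +kernel
theorem ck1059 : rangeAll (chkAtT pt 12 tb RJ) (1059 * 200) 200 = true := by decide +kernel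
theorem ck1060 : rangeAll (chkAtT pt 12 tb RJ) (1060 * 200) 200 = true := by decide +kernel
theorem ck1061 : rangeAll (chkAtT pt 12 tb RJ) (1061 * 200) 200 = true := by decide +kernel
theorem ck1062 : rangeAll (chkAtT pt 12 tb RJ) (1062 * 200) 200 = true := by decide +kernel
theorem ck1063 : rangeAll (chkAtT pt 12 tb RJ) (1063 * 200) 200 = true := by decide +kernel
theorem ck1064 : rangeAll (chkAtT pt 12 tb RJ) (1064 * 200) 200 = true := by decide +kernel
theorem ck1065 : rangeAll (chkAtT pt 12 tb RJ) (1065 * 200) 200 = true := by decide +kernel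
theorem ck1066 : rangeAll (chkAtT pt 12 tb RJ) (1066 * 200) 200 = true := by decide +kernel
theorem ck1067 : rangeAll (chkAtT pt 12 tb RJ) (1067 * 200) 200 = true := by decide +kernel
theorem ck1068 : rangeAll (chkAtT pt 12 tb RJ) (1068 * 200) 200 = true := by decide +kernel
theorem ck1069 : rangeAll (chkAtT pt 12 tb RJ) (1069 * 200) 200 = true := by decide +kernel
theorem ck1070 : rangeAll (chkAtT pt 12 tb RJ) (1070 * 200) 200 = true := by decide +kernel
theorem ck1071 : rangeAll (chkAtT pt 12 tb RJ) (1071 * 200) 200 = true := by decide +kernel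
theorem ck1072 : rangeAll (chkAtT pt 12 tb RJ) (1072 * 200) 200 = true := by decide +kernel
theorem ck1073 : rangeAll (chkAtT pt 12 tb RJ) (1073 * 200) 200 = true := by decide +kernel
theorem ck1074 : rangeAll (chkAtT pt 12 tb RJ) (1074 * 200) 200 = true := by decide +kernel
theorem ck1075 : rangeAll (chkAtT pt 12 tb RJ) (1075 * 200) 200 = true := by decide +kernel
theorem ck1076 : rangeAll (chkAtT pt 12 tb RJ) (1076 * 200) 200 = true := by decide +kernel
theorem ck1077 : rangeAll (chkAtT pt 12 tb RJ) (1077 * 200) 200 = true := by decide +kernel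
theorem ck1078 : rangeAll (chkAtT pt 12 tb RJ) (1078 * 200) 200 = true := by decide +kernel
theorem ck1079 : rangeAll (chkAtT pt 12 tb RJ) (1079 * 200) 200 = true := by decide +kernel
theorem ck1080 : rangeAll (chkAtT pt 12 tb RJ) (1080 * 200) 200 = true := by decide +kernel
theorem ck1081 : rangeAll (chkAtT pt 12 tb RJ) (1081 * 200) 200 = true := by decide +kernel
theorem ck1082 : rangeAll (chkAtT pt 12 tb RJ) (1082 * 200) 200 = true := by decide +kernel
theorem ck1083 : rangeAll (chkAtT pt 12 tb RJ) (1083 * 200) 200 = true := by decide +kernel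
theorem ck1084 : rangeAll (chkAtT pt 12 tb RJ) (1084 * 200) 200 = true := by decide +kernel
theorem ck1085 : rangeAll (chkAtT pt 12 tb RJ) (1085 * 200) 200 = true := by decide +kernel
theorem ck1086 : rangeAll (chkAtT pt 12 tb RJ) (1086 * 200) 200 = true := by decide +kernel
theorem ck1087 : rangeAll (chkAtT pt 12 tb RJ) (1087 * 200) 200 = true := by decide +kernel
theorem ck1088 : rangeAll (chkAtT pt 12 tb RJ) (1088 * 200) 200 = true := by decide +kernel
theorem ck1089 : rangeAll (chkAtT pt 12 tb RJ) (1089 * 200) 200 = true := by decide +kernel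
theorem ck1090 : rangeAll (chkAtT pt 12 tb RJ) (1090 * 200) 200 = true := by decide +kernel
theorem ck1091 : rangeAll (chkAtT pt 12 tb RJ) (1091 * 200) 200 = true := by decide +kernel
theorem ck1092 : rangeAll (chkAtT pt 12 tb RJ) (1092 * 200) 200 = true := by decide +kernel
theorem ck1093 : rangeAll (chkAtT pt 12 tb RJ) (1093 * 200) 200 = true := by decide +kernel
theorem ck1094 : rangeAll (chkAtT pt 12 tb RJ) (1094 * 200) 200 = true := by decide +kernel
theorem ck1095 : rangeAll (chkAtT pt 12 tb RJ) (1095 * 200) 200 = true := by decide +kernel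
theorem ck1096 : rangeAll (chkAtT pt 12 tb RJ) (1096 * 200) 200 = true := by decide +kernel
theorem ck1097 : rangeAll (chkAtT pt 12 tb RJ) (1097 * 200) 200 = true := by decide +kernel
theorem ck1098 : rangeAll (chkAtT pt 12 tb RJ) (1098 * 200) 200 = true := by decide +kernel
theorem ck1099 : rangeAll (chkAtT pt 12 tb RJ) (1099 * 200) 200 = true := by decide +kernel
theorem ck1100 : rangeAll (chkAtT pt 12 tb RJ) (1100 * 200) 200 = true := by decide +kernel
theorem ck1101 : rangeAll (chkAtT pt 12 tb RJ) (1101 * 200) 200 = true := by decide +kernel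
theorem ck1102 : rangeAll (chkAtT pt 12 tb RJ) (1102 * 200) 200 = true := by decide +kernel
theorem ck1103 : rangeAll (chkAtT pt 12 tb RJ) (1103 * 200) 200 = true := by decide +kernel
theorem ck1104 : rangeAll (chkAtT pt 12 tb RJ) (1104 * 200) 200 = true := by decide +kernel

end Cfsg.Agent.Lib.Schur.Cover.Fi24T
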