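import Cfsg.Agent.Lib.Schur.Cover.Fi24T.Tab
import Cfsg.Agent.Lib.TC.G.Fi24

set_option autoImplicit false
set_option maxRecDepth 100000
set_option maxHeartbeats 0
set_option Elab.async false

namespace Cfsg.Agent.Lib.Schur.Cover.Fi24T

open Cfsg.Agent.Lib.Schur.CoverTw Cfsg.Agent.Lib.PermComp.Kron
open Cfsg.Agent.Lib.TC.D.Fi24a.Tab (pt)

theorem ck1105 : rangeAll (chkAtT pt 12 tb RJ) (1105 * 200) 200 = true := by decide +kernel
theorem ck1106 : rangeAll (chkAtT pt 12 tb RJ) (1106 * 200) 200 = true := by decide +kernel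
theorem ck1107 : rangeAll (chkAtT pt 12 tb RJ) (1107 * 200) 200 = true := by decide +kernel
theorem ck1108 : rangeAll (chkAtT pt 12 tb RJ) (1108 * 200) 200 = true := by decide +kernel
theorem ck1109 : rangeAll (chkAtT pt 12 tb RJ) (1109 * 200) 200 = true := by decide +kernel
theorem ck1110 : rangeAll (chkAtT pt 12 tb RJ) (1110 * 200) 200 = true := by decide +kernel
theorem ck1111 : rangeAll (chkAtT pt 12 tb RJ) (1111 * 200) 200 = true := by decide +kernel
theorem ck1112 : rangeAll (chkAtT pt 12 tb RJ) (1112 * 200) 200 = true := by decide +kernel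
theorem ck1113 : rangeAll (chkAtT pt 12 tb RJ) (1113 * 200) 200 = true := by decide +kernel
theorem ck1114 : rangeAll (chkAtT pt 12 tb RJ) (1114 * 200) 200 = true := by decide +kernel
theorem ck1115 : rangeAll (chkAtT pt 12 tb RJ) (1115 * 200) 200 = true := by decide +kernel
theorem ck1116 : rangeAll (chkAtT pt 12 tb RJ) (1116 * 200) 200 = true := by decide +kernel
theorem ck1117 : rangeAll (chkAtT pt 12 tb RJ) (1117 * 200) 200 = true := by decide +kernel
theorem ck1118 : rangeAll (chkAtT pt 12 tb RJ) (1118 * 200) 200 = true := by decide +kernel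
theorem ck1119 : rangeAll (chkAtT pt 12 tb RJ) (1119 * 200) 200 = true := by decide +kernel
theorem ck1120 : rangeAll (chkAtT pt 12 tb RJ) (1120 * 200) 200 = true := by decide +kernel
theorem ck1121 : rangeAll (chkAtT pt 12 tb RJ) (1121 * 200) 200 = true := by decide +kernel
theorem ck1122 : rangeAll (chkAtT pt 12 tb RJ) (1122 * 200) 200 = true := by decide +kernel
theorem ck1123 : rangeAll (chkAtT pt 12 tb RJ) (1123 * 200) 200 = true := by decide +kernel
theorem ck1124 : rangeAll (chkAtT pt 12 tb RJ) (1124 * 200) 200 = true := by decide +kernel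
theorem ck1125 : rangeAll (chkAtT pt 12 tb RJ) (1125 * 200) 200 = true := by decide +kernel
theorem ck1126 : rangeAll (chkAtT pt 12 tb RJ) (1126 * 200) 200 = true := by decide +kernel
theorem ck1127 : rangeAll (chkAtT pt 12 tb RJ) (1127 * 200) 200 = true := by decide +kernel
theorem ck1128 : rangeAll (chkAtT pt 12 tb RJ) (1128 * 200) 200 = true := by decide +kernel
theorem ck1129 : rangeAll (chkAtT pt 12 tb RJ) (1129 * 200) 200 = true := by decide +kernel
theorem ck1130 : rangeAll (chkAtT pt 12 tb RJ) (1130 * 200) 200 = true := by decide +kernel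
theorem ck1131 : rangeAll (chkAtT pt 12 tb RJ) (1131 * 200) 200 = true := by decide +kernel
theorem ck1132 : rangeAll (chkAtT pt 12 tb RJ) (1132 * 200) 200 = true := by decide +kernel
theorem ck1133 : rangeAll (chkAtT pt 12 tb RJ) (1133 * 200) 200 = true := by decide +kernel
theorem ck1134 : rangeAll (chkAtT pt 12 tb RJ) (1134 * 200) 200 = true := by decide +kernel
theorem ck1135 : rangeAll (chkAtT pt 12 tb RJ) (1135 * 200) 200 = true := by decide +kernel
theorem ck1136 : rangeAll (chkAtT pt 12 tb RJ) (1136 * 200) 200 = true := by decide +kernel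
theorem ck1137 : rangeAll (chkAtT pt 12 tb RJ) (1137 * 200) 200 = true := by decide +kernel
theorem ck1138 : rangeAll (chkAtT pt 12 tb RJ) (1138 * 200) 200 = true := by decide +kernel
theorem ck1139 : rangeAll (chkAtT pt 12 tb RJ) (1139 * 200) 200 = true := by decide +kernel
theorem ck1140 : rangeAll (chkAtT pt 12 tb RJ) (1140 * 200) 200 = true := by decide +kernel
theorem ck1141 : rangeAll (chkAtT pt 12 tb RJ) (1141 * 200) 200 = true := by decide +kernel
theorem ck1142 : rangeAll (chkAtT pt 12 tb RJ) (1142 * 200) 200 = true := by decide +kernel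
theorem ck1143 : rangeAll (chkAtT pt 12 tb RJ) (1143 * 200) 200 = true := by decide +kernel
theorem ck1144 : rangeAll (chkAtT pt 12 tb RJ) (1144 * 200) 200 = true := by decide +kernel
theorem ck1145 : rangeAll (chkAtT pt 12 tb RJ) (1145 * 200) 200 = true := by decide +kernel
theorem ck1146 : rangeAll (chkAtT pt 12 tb RJ) (1146 * 200) 200 = true := by decide +kernel
theorem ck1147 : rangeAll (chkAtT pt 12 tb RJ) (1147 * 200) 200 = true := by decide +kernel
theorem ck1148 : rangeAll (chkAtT pt 12 tb RJ) (1148 * 200) 200 = true := by decide +kernel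
theorem ck1149 : rangeAll (chkAtT pt 12 tb RJ) (1149 * 200) 200 = true := by decide +kernel
theorem ck1150 : rangeAll (chkAtT pt 12 tb RJ) (1150 * 200) 200 = true := by decide +kernel
theorem ck1151 : rangeAll (chkAtT pt 12 tb RJ) (1151 * 200) 200 = true := by decide +kernel
theorem ck1152 : rangeAll (chkAtT pt 12 tb RJ) (1152 * 200) 200 = true := by decide +kernel
theorem ck1153 : rangeAll (chkAtT pt 12 tb RJ) (1153 * 200) 200 = true := by decide +kernel
theorem ck1154 : rangeAll (chkAtT pt 12 tb RJ) (1154 * 200) 200 = true := by decide +kernel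
theorem ck1155 : rangeAll (chkAtT pt 12 tb RJ) (1155 * 200) 200 = true := by decide +kernel
theorem ck1156 : rangeAll (chkAtT pt 12 tb RJ) (1156 * 200) 200 = true := by decide +kernel
theorem ck1157 : rangeAll (chkAtT pt 12 tb RJ) (1157 * 200) 200 = true := by decide +kernel
theorem ck1158 : rangeAll (chkAtT pt 12 tb RJ) (1158 * 200) 200 = true := by decide +kernel
theorem ck1159 : rangeAll (chkAtT pt 12 tb RJ) (1159 * 200) 200 = true := by decide +kernel
theorem ck1160 : rangeAll (chkAtT pt 12 tb RJ) (1160 * 200) 200 = true := by decide +kernel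
theorem ck1161 : rangeAll (chkAtT pt 12 tb RJ) (1161 * 200) 200 = true := by decide +kernel
theorem ck1162 : rangeAll (chkAtT pt 12 tb RJ) (1162 * 200) 200 = true := by decide +kernel
theorem ck1163 : rangeAll (chkAtT pt 12 tb RJ) (1163 * 200) 200 = true := by decide +kernel
theorem ck1164 : rangeAll (chkAtT pt 12 tb RJ) (1164 * 200) 200 = true := by decide +kernel
theorem ck1165 : rangeAll (chkAtT pt 12 tb RJ) (1165 * 200) 200 = true := by decide +kernel
theorem ck1166 : rangeAll (chkAtT pt 12 tb RJ) (1166 * 200) 200 = true := by decide +kernel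
theorem ck1167 : rangeAll (chkAtT pt 12 tb RJ) (1167 * 200) 200 = true := by decide +kernel
theorem ck1168 : rangeAll (chkAtT pt 12 tb RJ) (1168 * 200) 200 = true := by decide +kernel
theorem ck1169 : rangeAll (chkAtT pt 12 tb RJ) (1169 * 200) 200 = true := by decide +kernel

end Cfsg.Agent.Lib.Schur.Cover.Fi24T
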