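import Cfsg.Agent.Lib.Schur.Cover.Fi24T.Tab
import Cfsg.Agent.Lib.TC.G.Fi24

set_option autoImplicit false
set_option maxRecDepth 100000
set_option maxHeartbeats 0
set_option Elab.async false

namespace Cfsg.Agent.Lib.Schur.Cover.Fi24T

open Cfsg.Agent.Lib.Schur.CoverTw Cfsg.Agent.Lib.PermComp.Kron
open Cfsg.Agent.Lib.TC.D.Fi24a.Tab (pt)

theorem ck1170 : rangeAll (chkAtT pt 12 tb RJ) (1170 * 200) 200 = true := by decide +kernel
theorem ck1171 : rangeAll (chkAtT pt 12 tb RJ) (1171 * 200) 200 = true := by decide +kernel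
theorem ck1172 : rangeAll (chkAtT pt 12 tb RJ) (1172 * 200) 200 = true := by decide +kernel
theorem ck1173 : rangeAll (chkAtT pt 12 tb RJ) (1173 * 200) 200 = true := by decide +kernel
theorem ck1174 : rangeAll (chkAtT pt 12 tb RJ) (1174 * 200) 200 = true := by decide +kernel
theorem ck1175 : rangeAll (chkAtT pt 12 tb RJ) (1175 * 200) 200 = true := by decide +kernel
theorem ck1176 : rangeAll (chkAtT pt 12 tb RJ) (1176 * 200) 200 = true := by decide +kernel
theorem ck1177 : rangeAll (chkAtT pt 12 tb RJ) (1177 * 200) 200 = true := by decide +kernel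
theorem ck1178 : rangeAll (chkAtT pt 12 tb RJ) (1178 * 200) 200 = true := by decide +kernel
theorem ck1179 : rangeAll (chkAtT pt 12 tb RJ) (1179 * 200) 200 = true := by decide +kernel
theorem ck1180 : rangeAll (chkAtT pt 12 tb RJ) (1180 * 200) 200 = true := by decide +kernel
theorem ck1181 : rangeAll (chkAtT pt 12 tb RJ) (1181 * 200) 200 = true := by decide +kernel
theorem ck1182 : rangeAll (chkAtT pt 12 tb RJ) (1182 * 200) 200 = true := by decide +kernel
theorem ck1183 : rangeAll (chkAtT pt 12 tb RJ) (1183 * 200) 200 = true := by decide +kernel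
theorem ck1184 : rangeAll (chkAtT pt 12 tb RJ) (1184 * 200) 200 = true := by decide +kernel
theorem ck1185 : rangeAll (chkAtT pt 12 tb RJ) (1185 * 200) 200 = true := by decide +kernel
theorem ck1186 : rangeAll (chkAtT pt 12 tb RJ) (1186 * 200) 200 = true := by decide +kernel
theorem ck1187 : rangeAll (chkAtT pt 12 tb RJ) (1187 * 200) 200 = true := by decide +kernel
theorem ck1188 : rangeAll (chkAtT pt 12 tb RJ) (1188 * 200) 200 = true := by decide +kernel
theorem ck1189 : rangeAll (chkAtT pt 12 tb RJ) (1189 * 200) 200 = true := by decide +kernel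
theorem ck1190 : rangeAll (chkAtT pt 12 tb RJ) (1190 * 200) 200 = true := by decide +kernel
theorem ck1191 : rangeAll (chkAtT pt 12 tb RJ) (1191 * 200) 200 = true := by decide +kernel
theorem ck1192 : rangeAll (chkAtT pt 12 tb RJ) (1192 * 200) 200 = true := by decide +kernel
theorem ck1193 : rangeAll (chkAtT pt 12 tb RJ) (1193 * 200) 200 = true := by decide +kernel
theorem ck1194 : rangeAll (chkAtT pt 12 tb RJ) (1194 * 200) 200 = true := by decide +kernel
theorem ck1195 : rangeAll (chkAtT pt 12 tb RJ) (1195 * 200) 200 = true := by decide +kernel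
theorem ck1196 : rangeAll (chkAtT pt 12 tb RJ) (1196 * 200) 200 = true := by decide +kernel
theorem ck1197 : rangeAll (chkAtT pt 12 tb RJ) (1197 * 200) 200 = true := by decide +kernel
theorem ck1198 : rangeAll (chkAtT pt 12 tb RJ) (1198 * 200) 200 = true := by decide +kernel
theorem ck1199 : rangeAll (chkAtT pt 12 tb RJ) (1199 * 200) 200 = true := by decide +kernel
theorem ck1200 : rangeAll (chkAtT pt 12 tb RJ) (1200 * 200) 200 = true := by decide +kernel
theorem ck1201 : rangeAll (chkAtT pt 12 tb RJ) (1201 * 200) 200 = true := by decide +kernel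
theorem ck1202 : rangeAll (chkAtT pt 12 tb RJ) (1202 * 200) 200 = true := by decide +kernel
theorem ck1203 : rangeAll (chkAtT pt 12 tb RJ) (1203 * 200) 200 = true := by decide +kernel
theorem ck1204 : rangeAll (chkAtT pt 12 tb RJ) (1204 * 200) 200 = true := by decide +kernel
theorem ck1205 : rangeAll (chkAtT pt 12 tb RJ) (1205 * 200) 200 = true := by decide +kernel
theorem ck1206 : rangeAll (chkAtT pt 12 tb RJ) (1206 * 200) 200 = true := by decide +kernel
theorem ck1207 : rangeAll (chkAtT pt 12 tb RJ) (1207 * 200) 200 = true := by decide +kernel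
theorem ck1208 : rangeAll (chkAtT pt 12 tb RJ) (1208 * 200) 200 = true := by decide +kernel
theorem ck1209 : rangeAll (chkAtT pt 12 tb RJ) (1209 * 200) 200 = true := by decide +kernel
theorem ck1210 : rangeAll (chkAtT pt 12 tb RJ) (1210 * 200) 200 = true := by decide +kernel
theorem ck1211 : rangeAll (chkAtT pt 12 tb RJ) (1211 * 200) 200 = true := by decide +kernel
theorem ck1212 : rangeAll (chkAtT pt 12 tb RJ) (1212 * 200) 200 = true := by decide +kernel
theorem ck1213 : rangeAll (chkAtT pt 12 tb RJ) (1213 * 200) 200 = true := by decide +kernel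
theorem ck1214 : rangeAll (chkAtT pt 12 tb RJ) (1214 * 200) 200 = true := by decide +kernel
theorem ck1215 : rangeAll (chkAtT pt 12 tb RJ) (1215 * 200) 200 = true := by decide +kernel
theorem ck1216 : rangeAll (chkAtT pt 12 tb RJ) (1216 * 200) 200 = true := by decide +kernel
theorem ck1217 : rangeAll (chkAtT pt 12 tb RJ) (1217 * 200) 200 = true := by decide +kernel
theorem ck1218 : rangeAll (chkAtT pt 12 tb RJ) (1218 * 200) 200 = true := by decide +kernel
theorem ck1219 : rangeAll (chkAtT pt 12 tb RJ) (1219 * 200) 200 = true := by decide +kernel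
theorem ck1220 : rangeAll (chkAtT pt 12 tb RJ) (1220 * 200) 200 = true := by decide +kernel
theorem ck1221 : rangeAll (chkAtT pt 12 tb RJ) (1221 * 200) 200 = true := by decide +kernel
theorem ck1222 : rangeAll (chkAtT pt 12 tb RJ) (1222 * 200) 200 = true := by decide +kernel
theorem ck1223 : rangeAll (chkAtT pt 12 tb RJ) (1223 * 200) 200 = true := by decide +kernel
theorem ck1224 : rangeAll (chkAtT pt 12 tb RJ) (1224 * 200) 200 = true := by decide +kernel
theorem ck1225 : rangeAll (chkAtT pt 12 tb RJ) (1225 * 200) 200 = true := by decide +kernel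
theorem ck1226 : rangeAll (chkAtT pt 12 tb RJ) (1226 * 200) 200 = true := by decide +kernel
theorem ck1227 : rangeAll (chkAtT pt 12 tb RJ) (1227 * 200) 200 = true := by decide +kernel
theorem ck1228 : rangeAll (chkAtT pt 12 tb RJ) (1228 * 200) 200 = true := by decide +kernel
theorem ck1229 : rangeAll (chkAtT pt 12 tb RJ) (1229 * 200) 200 = true := by decide +kernel
theorem ck1230 : rangeAll (chkAtT pt 12 tb RJ) (1230 * 200) 200 = true := by decide +kernel
theorem ck1231 : rangeAll (chkAtT pt 12 tb RJ) (1231 * 200) 200 = true := by decide +kernel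
theorem ck1232 : rangeAll (chkAtT pt 12 tb RJ) (1232 * 200) 200 = true := by decide +kernel
theorem ck1233 : rangeAll (chkAtT pt 12 tb RJ) (1233 * 200) 200 = true := by decide +kernel
theorem ck1234 : rangeAll (chkAtT pt 12 tb RJ) (1234 * 200) 200 = true := by decide +kernel

end Cfsg.Agent.Lib.Schur.Cover.Fi24T
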