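import Cfsg.Agent.Lib.Schur.Cover.Fi24T.Tab
import Cfsg.Agent.Lib.TC.G.Fi24

set_option autoImplicit false
set_option maxRecDepth 100000
set_option maxHeartbeats 0
set_option Elab.async false

namespace Cfsg.Agent.Lib.Schur.Cover.Fi24T

open Cfsg.Agent.Lib.Schur.CoverTw Cfsg.Agent.Lib.PermComp.Kron
open Cfsg.Agent.Lib.TC.D.Fi24a.Tab (pt)

theorem ck1235 : rangeAll (chkAtT pt 12 tb RJ) (1235 * 200) 200 = true := by decide +kernel
theorem ck1236 : rangeAll (chkAtT pt 12 tb RJ) (1236 * 200) 200 = true := by decide +kernel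
theorem ck1237 : rangeAll (chkAtT pt 12 tb RJ) (1237 * 200) 200 = true := by decide +kernel
theorem ck1238 : rangeAll (chkAtT pt 12 tb RJ) (1238 * 200) 200 = true := by decide +kernel
theorem ck1239 : rangeAll (chkAtT pt 12 tb RJ) (1239 * 200) 200 = true := by decide +kernel
theorem ck1240 : rangeAll (chkAtT pt 12 tb RJ) (1240 * 200) 200 = true := by decide +kernel
theorem ck1241 : rangeAll (chkAtT pt 12 tb RJ) (1241 * 200) 200 = true := by decide +kernel
theorem ck1242 : rangeAll (chkAtT pt 12 tb RJ) (1242 * 200) 200 = true := by decide +kernel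
theorem ck1243 : rangeAll (chkAtT pt 12 tb RJ) (1243 * 200) 200 = true := by decide +kernel
theorem ck1244 : rangeAll (chkAtT pt 12 tb RJ) (1244 * 200) 200 = true := by decide +kernel
theorem ck1245 : rangeAll (chkAtT pt 12 tb RJ) (1245 * 200) 200 = true := by decide +kernel
theorem ck1246 : rangeAll (chkAtT pt 12 tb RJ) (1246 * 200) 200 = true := by decide +kernel
theorem ck1247 : rangeAll (chkAtT pt 12 tb RJ) (1247 * 200) 200 = true := by decide +kernel
theorem ck1248 : rangeAll (chkAtT pt 12 tb RJ) (1248 * 200) 200 = true := by decide +kernel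
theorem ck1249 : rangeAll (chkAtT pt 12 tb RJ) (1249 * 200) 200 = true := by decide +kernel
theorem ck1250 : rangeAll (chkAtT pt 12 tb RJ) (1250 * 200) 200 = true := by decide +kernel
theorem ck1251 : rangeAll (chkAtT pt 12 tb RJ) (1251 * 200) 200 = true := by decide +kernel
theorem ck1252 : rangeAll (chkAtT pt 12 tb RJ) (1252 * 200) 200 = true := by decide +kernel
theorem ck1253 : rangeAll (chkAtT pt 12 tb RJ) (1253 * 200) 200 = true := by decide +kernel
theorem ck1254 : rangeAll (chkAtT pt 12 tb RJ) (1254 * 200) 200 = true := by decide +kernel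
theorem ck1255 : rangeAll (chkAtT pt 12 tb RJ) (1255 * 200) 200 = true := by decide +kernel
theorem ck1256 : rangeAll (chkAtT pt 12 tb RJ) (1256 * 200) 200 = true := by decide +kernel
theorem ck1257 : rangeAll (chkAtT pt 12 tb RJ) (1257 * 200) 200 = true := by decide +kernel
theorem ck1258 : rangeAll (chkAtT pt 12 tb RJ) (1258 * 200) 200 = true := by decide +kernel
theorem ck1259 : rangeAll (chkAtT pt 12 tb RJ) (1259 * 200) 200 = true := by decide +kernel
theorem ck1260 : rangeAll (chkAtT pt 12 tb RJ) (1260 * 200) 200 = true := by decide +kernel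
theorem ck1261 : rangeAll (chkAtT pt 12 tb RJ) (1261 * 200) 200 = true := by decide +kernel
theorem ck1262 : rangeAll (chkAtT pt 12 tb RJ) (1262 * 200) 200 = true := by decide +kernel
theorem ck1263 : rangeAll (chkAtT pt 12 tb RJ) (1263 * 200) 200 = true := by decide +kernel
theorem ck1264 : rangeAll (chkAtT pt 12 tb RJ) (1264 * 200) 200 = true := by decide +kernel
theorem ck1265 : rangeAll (chkAtT pt 12 tb RJ) (1265 * 200) 200 = true := by decide +kernel
theorem ck1266 : rangeAll (chkAtT pt 12 tb RJ) (1266 * 200) 200 = true := by decide +kernel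
theorem ck1267 : rangeAll (chkAtT pt 12 tb RJ) (1267 * 200) 200 = true := by decide +kernel
theorem ck1268 : rangeAll (chkAtT pt 12 tb RJ) (1268 * 200) 200 = true := by decide +kernel
theorem ck1269 : rangeAll (chkAtT pt 12 tb RJ) (1269 * 200) 200 = true := by decide +kernel
theorem ck1270 : rangeAll (chkAtT pt 12 tb RJ) (1270 * 200) 200 = true := by decide +kernel
theorem ck1271 : rangeAll (chkAtT pt 12 tb RJ) (1271 * 200) 200 = true := by decide +kernel
theorem ck1272 : rangeAll (chkAtT pt 12 tb RJ) (1272 * 200) 200 = true := by decide +kernel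
theorem ck1273 : rangeAll (chkAtT pt 12 tb RJ) (1273 * 200) 200 = true := by decide +kernel
theorem ck1274 : rangeAll (chkAtT pt 12 tb RJ) (1274 * 200) 200 = true := by decide +kernel
theorem ck1275 : rangeAll (chkAtT pt 12 tb RJ) (1275 * 200) 200 = true := by decide +kernel
theorem ck1276 : rangeAll (chkAtT pt 12 tb RJ) (1276 * 200) 200 = true := by decide +kernel
theorem ck1277 : rangeAll (chkAtT pt 12 tb RJ) (1277 * 200) 200 = true := by decide +kernel
theorem ck1278 : rangeAll (chkAtT pt 12 tb RJ) (1278 * 200) 200 = true := by decide +kernel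
theorem ck1279 : rangeAll (chkAtT pt 12 tb RJ) (1279 * 200) 200 = true := by decide +kernel
theorem ck1280 : rangeAll (chkAtT pt 12 tb RJ) (1280 * 200) 200 = true := by decide +kernel
theorem ck1281 : rangeAll (chkAtT pt 12 tb RJ) (1281 * 200) 200 = true := by decide +kernel
theorem ck1282 : rangeAll (chkAtT pt 12 tb RJ) (1282 * 200) 200 = true := by decide +kernel
theorem ck1283 : rangeAll (chkAtT pt 12 tb RJ) (1283 * 200) 200 = true := by decide +kernel
theorem ck1284 : rangeAll (chkAtT pt 12 tb RJ) (1284 * 200) 200 = true := by decide +kernel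
theorem ck1285 : rangeAll (chkAtT pt 12 tb RJ) (1285 * 200) 200 = true := by decide +kernel
theorem ck1286 : rangeAll (chkAtT pt 12 tb RJ) (1286 * 200) 200 = true := by decide +kernel
theorem ck1287 : rangeAll (chkAtT pt 12 tb RJ) (1287 * 200) 200 = true := by decide +kernel
theorem ck1288 : rangeAll (chkAtT pt 12 tb RJ) (1288 * 200) 200 = true := by decide +kernel
theorem ck1289 : rangeAll (chkAtT pt 12 tb RJ) (1289 * 200) 200 = true := by decide +kernel
theorem ck1290 : rangeAll (chkAtT pt 12 tb RJ) (1290 * 200) 200 = true := by decide +kernel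
theorem ck1291 : rangeAll (chkAtT pt 12 tb RJ) (1291 * 200) 200 = true := by decide +kernel
theorem ck1292 : rangeAll (chkAtT pt 12 tb RJ) (1292 * 200) 200 = true := by decide +kernel
theorem ck1293 : rangeAll (chkAtT pt 12 tb RJ) (1293 * 200) 200 = true := by decide +kernel
theorem ck1294 : rangeAll (chkAtT pt 12 tb RJ) (1294 * 200) 200 = true := by decide +kernel
theorem ck1295 : rangeAll (chkAtT pt 12 tb RJ) (1295 * 200) 200 = true := by decide +kernel
theorem ck1296 : rangeAll (chkAtT pt 12 tb RJ) (1296 * 200) 200 = true := by decide +kernel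
theorem ck1297 : rangeAll (chkAtT pt 12 tb RJ) (1297 * 200) 200 = true := by decide +kernel
theorem ck1298 : rangeAll (chkAtT pt 12 tb RJ) (1298 * 200) 200 = true := by decide +kernel
theorem ck1299 : rangeAll (chkAtT pt 12 tb RJ) (1299 * 200) 200 = true := by decide +kernel

end Cfsg.Agent.Lib.Schur.Cover.Fi24T
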