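import Cfsg.Agent.Lib.Schur.Cover.Fi24T.Tab
import Cfsg.Agent.Lib.TC.G.Fi24

set_option autoImplicit false
set_option maxRecDepth 100000
set_option maxHeartbeats 0
set_option Elab.async false

namespace Cfsg.Agent.Lib.Schur.Cover.Fi24T

open Cfsg.Agent.Lib.Schur.CoverTw Cfsg.Agent.Lib.PermComp.Kron
open Cfsg.Agent.Lib.TC.D.Fi24a.Tab (pt)

theorem ck130 : rangeAll (chkAtT pt 12 tb RJ) (130 * 200) 200 = true := by decide +kernel
theorem ck131 : rangeAll (chkAtT pt 12 tb RJ) (131 * 200) 200 = true := by decide +kernel
theorem ck132 : rangeAll (chkAtT pt 12 tb RJ) (132 * 200) 200 = true := by decide +kernel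
theorem ck133 : rangeAll (chkAtT pt 12 tb RJ) (133 * 200) 200 = true := by decide +kernel
theorem ck134 : rangeAll (chkAtT pt 12 tb RJ) (134 * 200) 200 = true := by decide +kernel
theorem ck135 : rangeAll (chkAtT pt 12 tb RJ) (135 * 200) 200 = true := by decide +kernel
theorem ck136 : rangeAll (chkAtT pt 12 tb RJ) (136 * 200) 200 = true := by decide +kernel
theorem ck137 : rangeAll (chkAtT pt 12 tb RJ) (137 * 200) 200 = true := by decide +kernel
theorem ck138 : rangeAll (chkAtT pt 12 tb RJ) (138 * 200) 200 = true := by decide +kernel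
theorem ck139 : rangeAll (chkAtT pt 12 tb RJ) (139 * 200) 200 = true := by decide +kernel
theorem ck140 : rangeAll (chkAtT pt 12 tb RJ) (140 * 200) 200 = true := by decide +kernel
theorem ck141 : rangeAll (chkAtT pt 12 tb RJ) (141 * 200) 200 = true := by decide +kernel
theorem ck142 : rangeAll (chkAtT pt 12 tb RJ) (142 * 200) 200 = true := by decide +kernel
theorem ck143 : rangeAll (chkAtT pt 12 tb RJ) (143 * 200) 200 = true := by decide +kernel
theorem ck144 : rangeAll (chkAtT pt 12 tb RJ) (144 * 200) 200 = true := by decide +kernel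
theorem ck145 : rangeAll (chkAtT pt 12 tb RJ) (145 * 200) 200 = true := by decide +kernel
theorem ck146 : rangeAll (chkAtT pt 12 tb RJ) (146 * 200) 200 = true := by decide +kernel
theorem ck147 : rangeAll (chkAtT pt 12 tb RJ) (147 * 200) 200 = true := by decide +kernel
theorem ck148 : rangeAll (chkAtT pt 12 tb RJ) (148 * 200) 200 = true := by decide +kernel
theorem ck149 : rangeAll (chkAtT pt 12 tb RJ) (149 * 200) 200 = true := by decide +kernel
theorem ck150 : rangeAll (chkAtT pt 12 tb RJ) (150 * 200) 200 = true := by decide +kernel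
theorem ck151 : rangeAll (chkAtT pt 12 tb RJ) (151 * 200) 200 = true := by decide +kernel
theorem ck152 : rangeAll (chkAtT pt 12 tb RJ) (152 * 200) 200 = true := by decide +kernel
theorem ck153 : rangeAll (chkAtT pt 12 tb RJ) (153 * 200) 200 = true := by decide +kernel
theorem ck154 : rangeAll (chkAtT pt 12 tb RJ) (154 * 200) 200 = true := by decide +kernel
theorem ck155 : rangeAll (chkAtT pt 12 tb RJ) (155 * 200) 200 = true := by decide +kernel
theorem ck156 : rangeAll (chkAtT pt 12 tb RJ) (156 * 200) 200 = true := by decide +kernel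
theorem ck157 : rangeAll (chkAtT pt 12 tb RJ) (157 * 200) 200 = true := by decide +kernel
theorem ck158 : rangeAll (chkAtT pt 12 tb RJ) (158 * 200) 200 = true := by decide +kernel
theorem ck159 : rangeAll (chkAtT pt 12 tb RJ) (159 * 200) 200 = true := by decide +kernel
theorem ck160 : rangeAll (chkAtT pt 12 tb RJ) (160 * 200) 200 = true := by decide +kernel
theorem ck161 : rangeAll (chkAtT pt 12 tb RJ) (161 * 200) 200 = true := by decide +kernel
theorem ck162 : rangeAll (chkAtT pt 12 tb RJ) (162 * 200) 200 = true := by decide +kernel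
theorem ck163 : rangeAll (chkAtT pt 12 tb RJ) (163 * 200) 200 = true := by decide +kernel
theorem ck164 : rangeAll (chkAtT pt 12 tb RJ) (164 * 200) 200 = true := by decide +kernel
theorem ck165 : rangeAll (chkAtT pt 12 tb RJ) (165 * 200) 200 = true := by decide +kernel
theorem ck166 : rangeAll (chkAtT pt 12 tb RJ) (166 * 200) 200 = true := by decide +kernel
theorem ck167 : rangeAll (chkAtT pt 12 tb RJ) (167 * 200) 200 = true := by decide +kernel
theorem ck168 : rangeAll (chkAtT pt 12 tb RJ) (168 * 200) 200 = true := by decide +kernel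
theorem ck169 : rangeAll (chkAtT pt 12 tb RJ) (169 * 200) 200 = true := by decide +kernel
theorem ck170 : rangeAll (chkAtT pt 12 tb RJ) (170 * 200) 200 = true := by decide +kernel
theorem ck171 : rangeAll (chkAtT pt 12 tb RJ) (171 * 200) 200 = true := by decide +kernel
theorem ck172 : rangeAll (chkAtT pt 12 tb RJ) (172 * 200) 200 = true := by decide +kernel
theorem ck173 : rangeAll (chkAtT pt 12 tb RJ) (173 * 200) 200 = true := by decide +kernel
theorem ck174 : rangeAll (chkAtT pt 12 tb RJ) (174 * 200) 200 = true := by decide +kernel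
theorem ck175 : rangeAll (chkAtT pt 12 tb RJ) (175 * 200) 200 = true := by decide +kernel
theorem ck176 : rangeAll (chkAtT pt 12 tb RJ) (176 * 200) 200 = true := by decide +kernel
theorem ck177 : rangeAll (chkAtT pt 12 tb RJ) (177 * 200) 200 = true := by decide +kernel
theorem ck178 : rangeAll (chkAtT pt 12 tb RJ) (178 * 200) 200 = true := by decide +kernel
theorem ck179 : rangeAll (chkAtT pt 12 tb RJ) (179 * 200) 200 = true := by decide +kernel
theorem ck180 : rangeAll (chkAtT pt 12 tb RJ) (180 * 200) 200 = true := by decide +kernel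
theorem ck181 : rangeAll (chkAtT pt 12 tb RJ) (181 * 200) 200 = true := by decide +kernel
theorem ck182 : rangeAll (chkAtT pt 12 tb RJ) (182 * 200) 200 = true := by decide +kernel
theorem ck183 : rangeAll (chkAtT pt 12 tb RJ) (183 * 200) 200 = true := by decide +kernel
theorem ck184 : rangeAll (chkAtT pt 12 tb RJ) (184 * 200) 200 = true := by decide +kernel
theorem ck185 : rangeAll (chkAtT pt 12 tb RJ) (185 * 200) 200 = true := by decide +kernel
theorem ck186 : rangeAll (chkAtT pt 12 tb RJ) (186 * 200) 200 = true := by decide +kernel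
theorem ck187 : rangeAll (chkAtT pt 12 tb RJ) (187 * 200) 200 = true := by decide +kernel
theorem ck188 : rangeAll (chkAtT pt 12 tb RJ) (188 * 200) 200 = true := by decide +kernel
theorem ck189 : rangeAll (chkAtT pt 12 tb RJ) (189 * 200) 200 = true := by decide +kernel
theorem ck190 : rangeAll (chkAtT pt 12 tb RJ) (190 * 200) 200 = true := by decide +kernel
theorem ck191 : rangeAll (chkAtT pt 12 tb RJ) (191 * 200) 200 = true := by decide +kernel
theorem ck192 : rangeAll (chkAtT pt 12 tb RJ) (192 * 200) 200 = true := by decide +kernel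
theorem ck193 : rangeAll (chkAtT pt 12 tb RJ) (193 * 200) 200 = true := by decide +kernel
theorem ck194 : rangeAll (chkAtT pt 12 tb RJ) (194 * 200) 200 = true := by decide +kernel

end Cfsg.Agent.Lib.Schur.Cover.Fi24T
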