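import Cfsg.Agent.Lib.Schur.Cover.Fi24T.Tab
import Cfsg.Agent.Lib.TC.G.Fi24

set_option autoImplicit false
set_option maxRecDepth 100000
set_option maxHeartbeats 0
set_option Elab.async false

namespace Cfsg.Agent.Lib.Schur.Cover.Fi24T

open Cfsg.Agent.Lib.Schur.CoverTw Cfsg.Agent.Lib.PermComp.Kron
open Cfsg.Agent.Lib.TC.D.Fi24a.Tab (pt)

theorem ck1300 : rangeAll (chkAtT pt 12 tb RJ) (1300 * 200) 200 = true := by decide +kernel
theorem ck1301 : rangeAll (chkAtT pt 12 tb RJ) (1301 * 200) 200 = true := by decide +kernel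
theorem ck1302 : rangeAll (chkAtT pt 12 tb RJ) (1302 * 200) 200 = true := by decide +kernel
theorem ck1303 : rangeAll (chkAtT pt 12 tb RJ) (1303 * 200) 200 = true := by decide +kernel
theorem ck1304 : rangeAll (chkAtT pt 12 tb RJ) (1304 * 200) 200 = true := by decide +kernel
theorem ck1305 : rangeAll (chkAtT pt 12 tb RJ) (1305 * 200) 200 = true := by decide +kernel
theorem ck1306 : rangeAll (chkAtT pt 12 tb RJ) (1306 * 200) 200 = true := by decide +kernel
theorem ck1307 : rangeAll (chkAtT pt 12 tb RJ) (1307 * 200) 200 = true := by decide +kernel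
theorem ck1308 : rangeAll (chkAtT pt 12 tb RJ) (1308 * 200) 200 = true := by decide +kernel
theorem ck1309 : rangeAll (chkAtT pt 12 tb RJ) (1309 * 200) 200 = true := by decide +kernel
theorem ck1310 : rangeAll (chkAtT pt 12 tb RJ) (1310 * 200) 200 = true := by decide +kernel
theorem ck1311 : rangeAll (chkAtT pt 12 tb RJ) (1311 * 200) 200 = true := by decide +kernel
theorem ck1312 : rangeAll (chkAtT pt 12 tb RJ) (1312 * 200) 200 = true := by decide +kernel
theorem ck1313 : rangeAll (chkAtT pt 12 tb RJ) (1313 * 200) 200 = true := by decide +kernel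
theorem ck1314 : rangeAll (chkAtT pt 12 tb RJ) (1314 * 200) 200 = true := by decide +kernel
theorem ck1315 : rangeAll (chkAtT pt 12 tb RJ) (1315 * 200) 200 = true := by decide +kernel
theorem ck1316 : rangeAll (chkAtT pt 12 tb RJ) (1316 * 200) 200 = true := by decide +kernel
theorem ck1317 : rangeAll (chkAtT pt 12 tb RJ) (1317 * 200) 200 = true := by decide +kernel
theorem ck1318 : rangeAll (chkAtT pt 12 tb RJ) (1318 * 200) 200 = true := by decide +kernel
theorem ck1319 : rangeAll (chkAtT pt 12 tb RJ) (1319 * 200) 200 = true := by decide +kernel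
theorem ck1320 : rangeAll (chkAtT pt 12 tb RJ) (1320 * 200) 200 = true := by decide +kernel
theorem ck1321 : rangeAll (chkAtT pt 12 tb RJ) (1321 * 200) 200 = true := by decide +kernel
theorem ck1322 : rangeAll (chkAtT pt 12 tb RJ) (1322 * 200) 200 = true := by decide +kernel
theorem ck1323 : rangeAll (chkAtT pt 12 tb RJ) (1323 * 200) 200 = true := by decide +kernel
theorem ck1324 : rangeAll (chkAtT pt 12 tb RJ) (1324 * 200) 200 = true := by decide +kernel
theorem ck1325 : rangeAll (chkAtT pt 12 tb RJ) (1325 * 200) 200 = true := by decide +kernel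
theorem ck1326 : rangeAll (chkAtT pt 12 tb RJ) (1326 * 200) 200 = true := by decide +kernel
theorem ck1327 : rangeAll (chkAtT pt 12 tb RJ) (1327 * 200) 200 = true := by decide +kernel
theorem ck1328 : rangeAll (chkAtT pt 12 tb RJ) (1328 * 200) 200 = true := by decide +kernel
theorem ck1329 : rangeAll (chkAtT pt 12 tb RJ) (1329 * 200) 200 = true := by decide +kernel
theorem ck1330 : rangeAll (chkAtT pt 12 tb RJ) (1330 * 200) 200 = true := by decide +kernel
theorem ck1331 : rangeAll (chkAtT pt 12 tb RJ) (1331 * 200) 200 = true := by decide +kernel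
theorem ck1332 : rangeAll (chkAtT pt 12 tb RJ) (1332 * 200) 200 = true := by decide +kernel
theorem ck1333 : rangeAll (chkAtT pt 12 tb RJ) (1333 * 200) 200 = true := by decide +kernel
theorem ck1334 : rangeAll (chkAtT pt 12 tb RJ) (1334 * 200) 200 = true := by decide +kernel
theorem ck1335 : rangeAll (chkAtT pt 12 tb RJ) (1335 * 200) 200 = true := by decide +kernel
theorem ck1336 : rangeAll (chkAtT pt 12 tb RJ) (1336 * 200) 200 = true := by decide +kernel
theorem ck1337 : rangeAll (chkAtT pt 12 tb RJ) (1337 * 200) 200 = true := by decide +kernel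
theorem ck1338 : rangeAll (chkAtT pt 12 tb RJ) (1338 * 200) 200 = true := by decide +kernel
theorem ck1339 : rangeAll (chkAtT pt 12 tb RJ) (1339 * 200) 200 = true := by decide +kernel
theorem ck1340 : rangeAll (chkAtT pt 12 tb RJ) (1340 * 200) 200 = true := by decide +kernel
theorem ck1341 : rangeAll (chkAtT pt 12 tb RJ) (1341 * 200) 200 = true := by decide +kernel
theorem ck1342 : rangeAll (chkAtT pt 12 tb RJ) (1342 * 200) 200 = true := by decide +kernel
theorem ck1343 : rangeAll (chkAtT pt 12 tb RJ) (1343 * 200) 200 = true := by decide +kernel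
theorem ck1344 : rangeAll (chkAtT pt 12 tb RJ) (1344 * 200) 200 = true := by decide +kernel
theorem ck1345 : rangeAll (chkAtT pt 12 tb RJ) (1345 * 200) 200 = true := by decide +kernel
theorem ck1346 : rangeAll (chkAtT pt 12 tb RJ) (1346 * 200) 200 = true := by decide +kernel
theorem ck1347 : rangeAll (chkAtT pt 12 tb RJ) (1347 * 200) 200 = true := by decide +kernel
theorem ck1348 : rangeAll (chkAtT pt 12 tb RJ) (1348 * 200) 200 = true := by decide +kernel
theorem ck1349 : rangeAll (chkAtT pt 12 tb RJ) (1349 * 200) 200 = true := by decide +kernel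
theorem ck1350 : rangeAll (chkAtT pt 12 tb RJ) (1350 * 200) 200 = true := by decide +kernel
theorem ck1351 : rangeAll (chkAtT pt 12 tb RJ) (1351 * 200) 200 = true := by decide +kernel
theorem ck1352 : rangeAll (chkAtT pt 12 tb RJ) (1352 * 200) 200 = true := by decide +kernel
theorem ck1353 : rangeAll (chkAtT pt 12 tb RJ) (1353 * 200) 200 = true := by decide +kernel
theorem ck1354 : rangeAll (chkAtT pt 12 tb RJ) (1354 * 200) 200 = true := by decide +kernel
theorem ck1355 : rangeAll (chkAtT pt 12 tb RJ) (1355 * 200) 200 = true := by decide +kernel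
theorem ck1356 : rangeAll (chkAtT pt 12 tb RJ) (1356 * 200) 200 = true := by decide +kernel
theorem ck1357 : rangeAll (chkAtT pt 12 tb RJ) (1357 * 200) 200 = true := by decide +kernel
theorem ck1358 : rangeAll (chkAtT pt 12 tb RJ) (1358 * 200) 200 = true := by decide +kernel
theorem ck1359 : rangeAll (chkAtT pt 12 tb RJ) (1359 * 200) 200 = true := by decide +kernel
theorem ck1360 : rangeAll (chkAtT pt 12 tb RJ) (1360 * 200) 200 = true := by decide +kernel
theorem ck1361 : rangeAll (chkAtT pt 12 tb RJ) (1361 * 200) 200 = true := by decide +kernel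
theorem ck1362 : rangeAll (chkAtT pt 12 tb RJ) (1362 * 200) 200 = true := by decide +kernel
theorem ck1363 : rangeAll (chkAtT pt 12 tb RJ) (1363 * 200) 200 = true := by decide +kernel
theorem ck1364 : rangeAll (chkAtT pt 12 tb RJ) (1364 * 200) 200 = true := by decide +kernel

end Cfsg.Agent.Lib.Schur.Cover.Fi24T
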