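import Cfsg.Agent.Lib.Schur.Cover.Fi24T.Tab
import Cfsg.Agent.Lib.TC.G.Fi24

set_option autoImplicit false
set_option maxRecDepth 100000
set_option maxHeartbeats 0
set_option Elab.async false

namespace Cfsg.Agent.Lib.Schur.Cover.Fi24T

open Cfsg.Agent.Lib.Schur.CoverTw Cfsg.Agent.Lib.PermComp.Kron
open Cfsg.Agent.Lib.TC.D.Fi24a.Tab (pt)

theorem ck1365 : rangeAll (chkAtT pt 12 tb RJ) (1365 * 200) 200 = true := by decide +kernel
theorem ck1366 : rangeAll (chkAtT pt 12 tb RJ) (1366 * 200) 200 = true := by decide +kernel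
theorem ck1367 : rangeAll (chkAtT pt 12 tb RJ) (1367 * 200) 200 = true := by decide +kernel
theorem ck1368 : rangeAll (chkAtT pt 12 tb RJ) (1368 * 200) 200 = true := by decide +kernel
theorem ck1369 : rangeAll (chkAtT pt 12 tb RJ) (1369 * 200) 200 = true := by decide +kernel
theorem ck1370 : rangeAll (chkAtT pt 12 tb RJ) (1370 * 200) 200 = true := by decide +kernel
theorem ck1371 : rangeAll (chkAtT pt 12 tb RJ) (1371 * 200) 200 = true := by decide +kernel
theorem ck1372 : rangeAll (chkAtT pt 12 tb RJ) (1372 * 200) 200 = true := by decide +kernel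
theorem ck1373 : rangeAll (chkAtT pt 12 tb RJ) (1373 * 200) 200 = true := by decide +kernel
theorem ck1374 : rangeAll (chkAtT pt 12 tb RJ) (1374 * 200) 200 = true := by decide +kernel
theorem ck1375 : rangeAll (chkAtT pt 12 tb RJ) (1375 * 200) 200 = true := by decide +kernel
theorem ck1376 : rangeAll (chkAtT pt 12 tb RJ) (1376 * 200) 200 = true := by decide +kernel
theorem ck1377 : rangeAll (chkAtT pt 12 tb RJ) (1377 * 200) 200 = true := by decide +kernel
theorem ck1378 : rangeAll (chkAtT pt 12 tb RJ) (1378 * 200) 200 = true := by decide +kernel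
theorem ck1379 : rangeAll (chkAtT pt 12 tb RJ) (1379 * 200) 200 = true := by decide +kernel
theorem ck1380 : rangeAll (chkAtT pt 12 tb RJ) (1380 * 200) 200 = true := by decide +kernel
theorem ck1381 : rangeAll (chkAtT pt 12 tb RJ) (1381 * 200) 200 = true := by decide +kernel
theorem ck1382 : rangeAll (chkAtT pt 12 tb RJ) (1382 * 200) 200 = true := by decide +kernel
theorem ck1383 : rangeAll (chkAtT pt 12 tb RJ) (1383 * 200) 200 = true := by decide +kernel
theorem ck1384 : rangeAll (chkAtT pt 12 tb RJ) (1384 * 200) 200 = true := by decide +kernel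
theorem ck1385 : rangeAll (chkAtT pt 12 tb RJ) (1385 * 200) 200 = true := by decide +kernel
theorem ck1386 : rangeAll (chkAtT pt 12 tb RJ) (1386 * 200) 200 = true := by decide +kernel
theorem ck1387 : rangeAll (chkAtT pt 12 tb RJ) (1387 * 200) 200 = true := by decide +kernel
theorem ck1388 : rangeAll (chkAtT pt 12 tb RJ) (1388 * 200) 200 = true := by decide +kernel
theorem ck1389 : rangeAll (chkAtT pt 12 tb RJ) (1389 * 200) 200 = true := by decide +kernel
theorem ck1390 : rangeAll (chkAtT pt 12 tb RJ) (1390 * 200) 200 = true := by decide +kernel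
theorem ck1391 : rangeAll (chkAtT pt 12 tb RJ) (1391 * 200) 200 = true := by decide +kernel
theorem ck1392 : rangeAll (chkAtT pt 12 tb RJ) (1392 * 200) 200 = true := by decide +kernel
theorem ck1393 : rangeAll (chkAtT pt 12 tb RJ) (1393 * 200) 200 = true := by decide +kernel
theorem ck1394 : rangeAll (chkAtT pt 12 tb RJ) (1394 * 200) 200 = true := by decide +kernel
theorem ck1395 : rangeAll (chkAtT pt 12 tb RJ) (1395 * 200) 200 = true := by decide +kernel
theorem ck1396 : rangeAll (chkAtT pt 12 tb RJ) (1396 * 200) 200 = true := by decide +kernel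
theorem ck1397 : rangeAll (chkAtT pt 12 tb RJ) (1397 * 200) 200 = true := by decide +kernel
theorem ck1398 : rangeAll (chkAtT pt 12 tb RJ) (1398 * 200) 200 = true := by decide +kernel
theorem ck1399 : rangeAll (chkAtT pt 12 tb RJ) (1399 * 200) 200 = true := by decide +kernel
theorem ck1400 : rangeAll (chkAtT pt 12 tb RJ) (1400 * 200) 200 = true := by decide +kernel
theorem ck1401 : rangeAll (chkAtT pt 12 tb RJ) (1401 * 200) 200 = true := by decide +kernel
theorem ck1402 : rangeAll (chkAtT pt 12 tb RJ) (1402 * 200) 200 = true := by decide +kernel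
theorem ck1403 : rangeAll (chkAtT pt 12 tb RJ) (1403 * 200) 200 = true := by decide +kernel
theorem ck1404 : rangeAll (chkAtT pt 12 tb RJ) (1404 * 200) 200 = true := by decide +kernel
theorem ck1405 : rangeAll (chkAtT pt 12 tb RJ) (1405 * 200) 200 = true := by decide +kernel
theorem ck1406 : rangeAll (chkAtT pt 12 tb RJ) (1406 * 200) 200 = true := by decide +kernel
theorem ck1407 : rangeAll (chkAtT pt 12 tb RJ) (1407 * 200) 200 = true := by decide +kernel
theorem ck1408 : rangeAll (chkAtT pt 12 tb RJ) (1408 * 200) 200 = true := by decide +kernel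
theorem ck1409 : rangeAll (chkAtT pt 12 tb RJ) (1409 * 200) 200 = true := by decide +kernel
theorem ck1410 : rangeAll (chkAtT pt 12 tb RJ) (1410 * 200) 200 = true := by decide +kernel
theorem ck1411 : rangeAll (chkAtT pt 12 tb RJ) (1411 * 200) 200 = true := by decide +kernel
theorem ck1412 : rangeAll (chkAtT pt 12 tb RJ) (1412 * 200) 200 = true := by decide +kernel
theorem ck1413 : rangeAll (chkAtT pt 12 tb RJ) (1413 * 200) 200 = true := by decide +kernel
theorem ck1414 : rangeAll (chkAtT pt 12 tb RJ) (1414 * 200) 200 = true := by decide +kernel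
theorem ck1415 : rangeAll (chkAtT pt 12 tb RJ) (1415 * 200) 200 = true := by decide +kernel
theorem ck1416 : rangeAll (chkAtT pt 12 tb RJ) (1416 * 200) 200 = true := by decide +kernel
theorem ck1417 : rangeAll (chkAtT pt 12 tb RJ) (1417 * 200) 200 = true := by decide +kernel
theorem ck1418 : rangeAll (chkAtT pt 12 tb RJ) (1418 * 200) 200 = true := by decide +kernel
theorem ck1419 : rangeAll (chkAtT pt 12 tb RJ) (1419 * 200) 200 = true := by decide +kernel
theorem ck1420 : rangeAll (chkAtT pt 12 tb RJ) (1420 * 200) 200 = true := by decide +kernel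
theorem ck1421 : rangeAll (chkAtT pt 12 tb RJ) (1421 * 200) 200 = true := by decide +kernel
theorem ck1422 : rangeAll (chkAtT pt 12 tb RJ) (1422 * 200) 200 = true := by decide +kernel
theorem ck1423 : rangeAll (chkAtT pt 12 tb RJ) (1423 * 200) 200 = true := by decide +kernel
theorem ck1424 : rangeAll (chkAtT pt 12 tb RJ) (1424 * 200) 200 = true := by decide +kernel
theorem ck1425 : rangeAll (chkAtT pt 12 tb RJ) (1425 * 200) 200 = true := by decide +kernel
theorem ck1426 : rangeAll (chkAtT pt 12 tb RJ) (1426 * 200) 200 = true := by decide +kernel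
theorem ck1427 : rangeAll (chkAtT pt 12 tb RJ) (1427 * 200) 200 = true := by decide +kernel
theorem ck1428 : rangeAll (chkAtT pt 12 tb RJ) (1428 * 200) 200 = true := by decide +kernel
theorem ck1429 : rangeAll (chkAtT pt 12 tb RJ) (1429 * 200) 200 = true := by decide +kernel

end Cfsg.Agent.Lib.Schur.Cover.Fi24T
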