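import Cfsg.Agent.Lib.Schur.Cover.Fi24T.Tab
import Cfsg.Agent.Lib.TC.G.Fi24

set_option autoImplicit false
set_option maxRecDepth 100000
set_option maxHeartbeats 0
set_option Elab.async false

namespace Cfsg.Agent.Lib.Schur.Cover.Fi24T

open Cfsg.Agent.Lib.Schur.CoverTw Cfsg.Agent.Lib.PermComp.Kron
open Cfsg.Agent.Lib.TC.D.Fi24a.Tab (pt)

theorem ck1430 : rangeAll (chkAtT pt 12 tb RJ) (1430 * 200) 200 = true := by decide +kernel
theorem ck1431 : rangeAll (chkAtT pt 12 tb RJ) (1431 * 200) 200 = true := by decide +kernel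
theorem ck1432 : rangeAll (chkAtT pt 12 tb RJ) (1432 * 200) 200 = true := by decide +kernel
theorem ck1433 : rangeAll (chkAtT pt 12 tb RJ) (1433 * 200) 200 = true := by decide +kernel
theorem ck1434 : rangeAll (chkAtT pt 12 tb RJ) (1434 * 200) 200 = true := by decide +kernel
theorem ck1435 : rangeAll (chkAtT pt 12 tb RJ) (1435 * 200) 200 = true := by decide +kernel
theorem ck1436 : rangeAll (chkAtT pt 12 tb RJ) (1436 * 200) 200 = true := by decide +kernel
theorem ck1437 : rangeAll (chkAtT pt 12 tb RJ) (1437 * 200) 200 = true := by decide +kernel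
theorem ck1438 : rangeAll (chkAtT pt 12 tb RJ) (1438 * 200) 200 = true := by decide +kernel
theorem ck1439 : rangeAll (chkAtT pt 12 tb RJ) (1439 * 200) 200 = true := by decide +kernel
theorem ck1440 : rangeAll (chkAtT pt 12 tb RJ) (1440 * 200) 200 = true := by decide +kernel
theorem ck1441 : rangeAll (chkAtT pt 12 tb RJ) (1441 * 200) 200 = true := by decide +kernel
theorem ck1442 : rangeAll (chkAtT pt 12 tb RJ) (1442 * 200) 200 = true := by decide +kernel
theorem ck1443 : rangeAll (chkAtT pt 12 tb RJ) (1443 * 200) 200 = true := by decide +kernel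
theorem ck1444 : rangeAll (chkAtT pt 12 tb RJ) (1444 * 200) 200 = true := by decide +kernel
theorem ck1445 : rangeAll (chkAtT pt 12 tb RJ) (1445 * 200) 200 = true := by decide +kernel
theorem ck1446 : rangeAll (chkAtT pt 12 tb RJ) (1446 * 200) 200 = true := by decide +kernel
theorem ck1447 : rangeAll (chkAtT pt 12 tb RJ) (1447 * 200) 200 = true := by decide +kernel
theorem ck1448 : rangeAll (chkAtT pt 12 tb RJ) (1448 * 200) 200 = true := by decide +kernel
theorem ck1449 : rangeAll (chkAtT pt 12 tb RJ) (1449 * 200) 200 = true := by decide +kernel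
theorem ck1450 : rangeAll (chkAtT pt 12 tb RJ) (1450 * 200) 200 = true := by decide +kernel
theorem ck1451 : rangeAll (chkAtT pt 12 tb RJ) (1451 * 200) 200 = true := by decide +kernel
theorem ck1452 : rangeAll (chkAtT pt 12 tb RJ) (1452 * 200) 200 = true := by decide +kernel
theorem ck1453 : rangeAll (chkAtT pt 12 tb RJ) (1453 * 200) 200 = true := by decide +kernel
theorem ck1454 : rangeAll (chkAtT pt 12 tb RJ) (1454 * 200) 200 = true := by decide +kernel
theorem ck1455 : rangeAll (chkAtT pt 12 tb RJ) (1455 * 200) 200 = true := by decide +kernel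
theorem ck1456 : rangeAll (chkAtT pt 12 tb RJ) (1456 * 200) 200 = true := by decide +kernel
theorem ck1457 : rangeAll (chkAtT pt 12 tb RJ) (1457 * 200) 200 = true := by decide +kernel
theorem ck1458 : rangeAll (chkAtT pt 12 tb RJ) (1458 * 200) 200 = true := by decide +kernel
theorem ck1459 : rangeAll (chkAtT pt 12 tb RJ) (1459 * 200) 200 = true := by decide +kernel
theorem ck1460 : rangeAll (chkAtT pt 12 tb RJ) (1460 * 200) 200 = true := by decide +kernel
theorem ck1461 : rangeAll (chkAtT pt 12 tb RJ) (1461 * 200) 200 = true := by decide +kernel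
theorem ck1462 : rangeAll (chkAtT pt 12 tb RJ) (1462 * 200) 200 = true := by decide +kernel
theorem ck1463 : rangeAll (chkAtT pt 12 tb RJ) (1463 * 200) 200 = true := by decide +kernel
theorem ck1464 : rangeAll (chkAtT pt 12 tb RJ) (1464 * 200) 200 = true := by decide +kernel
theorem ck1465 : rangeAll (chkAtT pt 12 tb RJ) (1465 * 200) 200 = true := by decide +kernel
theorem ck1466 : rangeAll (chkAtT pt 12 tb RJ) (1466 * 200) 200 = true := by decide +kernel
theorem ck1467 : rangeAll (chkAtT pt 12 tb RJ) (1467 * 200) 200 = true := by decide +kernel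
theorem ck1468 : rangeAll (chkAtT pt 12 tb RJ) (1468 * 200) 200 = true := by decide +kernel
theorem ck1469 : rangeAll (chkAtT pt 12 tb RJ) (1469 * 200) 200 = true := by decide +kernel
theorem ck1470 : rangeAll (chkAtT pt 12 tb RJ) (1470 * 200) 200 = true := by decide +kernel
theorem ck1471 : rangeAll (chkAtT pt 12 tb RJ) (1471 * 200) 200 = true := by decide +kernel
theorem ck1472 : rangeAll (chkAtT pt 12 tb RJ) (1472 * 200) 200 = true := by decide +kernel
theorem ck1473 : rangeAll (chkAtT pt 12 tb RJ) (1473 * 200) 200 = true := by decide +kernel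
theorem ck1474 : rangeAll (chkAtT pt 12 tb RJ) (1474 * 200) 200 = true := by decide +kernel
theorem ck1475 : rangeAll (chkAtT pt 12 tb RJ) (1475 * 200) 200 = true := by decide +kernel
theorem ck1476 : rangeAll (chkAtT pt 12 tb RJ) (1476 * 200) 200 = true := by decide +kernel
theorem ck1477 : rangeAll (chkAtT pt 12 tb RJ) (1477 * 200) 200 = true := by decide +kernel
theorem ck1478 : rangeAll (chkAtT pt 12 tb RJ) (1478 * 200) 200 = true := by decide +kernel
theorem ck1479 : rangeAll (chkAtT pt 12 tb RJ) (1479 * 200) 200 = true := by decide +kernel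
theorem ck1480 : rangeAll (chkAtT pt 12 tb RJ) (1480 * 200) 200 = true := by decide +kernel
theorem ck1481 : rangeAll (chkAtT pt 12 tb RJ) (1481 * 200) 200 = true := by decide +kernel
theorem ck1482 : rangeAll (chkAtT pt 12 tb RJ) (1482 * 200) 200 = true := by decide +kernel
theorem ck1483 : rangeAll (chkAtT pt 12 tb RJ) (1483 * 200) 200 = true := by decide +kernel
theorem ck1484 : rangeAll (chkAtT pt 12 tb RJ) (1484 * 200) 200 = true := by decide +kernel
theorem ck1485 : rangeAll (chkAtT pt 12 tb RJ) (1485 * 200) 200 = true := by decide +kernel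
theorem ck1486 : rangeAll (chkAtT pt 12 tb RJ) (1486 * 200) 200 = true := by decide +kernel
theorem ck1487 : rangeAll (chkAtT pt 12 tb RJ) (1487 * 200) 200 = true := by decide +kernel
theorem ck1488 : rangeAll (chkAtT pt 12 tb RJ) (1488 * 200) 200 = true := by decide +kernel
theorem ck1489 : rangeAll (chkAtT pt 12 tb RJ) (1489 * 200) 200 = true := by decide +kernel
theorem ck1490 : rangeAll (chkAtT pt 12 tb RJ) (1490 * 200) 200 = true := by decide +kernel
theorem ck1491 : rangeAll (chkAtT pt 12 tb RJ) (1491 * 200) 200 = true := by decide +kernel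
theorem ck1492 : rangeAll (chkAtT pt 12 tb RJ) (1492 * 200) 200 = true := by decide +kernel
theorem ck1493 : rangeAll (chkAtT pt 12 tb RJ) (1493 * 200) 200 = true := by decide +kernel
theorem ck1494 : rangeAll (chkAtT pt 12 tb RJ) (1494 * 200) 200 = true := by decide +kernel

end Cfsg.Agent.Lib.Schur.Cover.Fi24T
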