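import Cfsg.Agent.Lib.Schur.Cover.Fi24T.Tab
import Cfsg.Agent.Lib.TC.G.Fi24

set_option autoImplicit false
set_option maxRecDepth 100000
set_option maxHeartbeats 0
set_option Elab.async false

namespace Cfsg.Agent.Lib.Schur.Cover.Fi24T

open Cfsg.Agent.Lib.Schur.CoverTw Cfsg.Agent.Lib.PermComp.Kron
open Cfsg.Agent.Lib.TC.D.Fi24a.Tab (pt)

theorem ck1495 : rangeAll (chkAtT pt 12 tb RJ) (1495 * 200) 200 = true := by decide +kernel
theorem ck1496 : rangeAll (chkAtT pt 12 tb RJ) (1496 * 200) 200 = true := by decide +kernel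
theorem ck1497 : rangeAll (chkAtT pt 12 tb RJ) (1497 * 200) 200 = true := by decide +kernel
theorem ck1498 : rangeAll (chkAtT pt 12 tb RJ) (1498 * 200) 200 = true := by decide +kernel
theorem ck1499 : rangeAll (chkAtT pt 12 tb RJ) (1499 * 200) 200 = true := by decide +kernel
theorem ck1500 : rangeAll (chkAtT pt 12 tb RJ) (1500 * 200) 200 = true := by decide +kernel
theorem ck1501 : rangeAll (chkAtT pt 12 tb RJ) (1501 * 200) 200 = true := by decide +kernel
theorem ck1502 : rangeAll (chkAtT pt 12 tb RJ) (1502 * 200) 200 = true := by decide +kernel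
theorem ck1503 : rangeAll (chkAtT pt 12 tb RJ) (1503 * 200) 200 = true := by decide +kernel
theorem ck1504 : rangeAll (chkAtT pt 12 tb RJ) (1504 * 200) 200 = true := by decide +kernel
theorem ck1505 : rangeAll (chkAtT pt 12 tb RJ) (1505 * 200) 200 = true := by decide +kernel
theorem ck1506 : rangeAll (chkAtT pt 12 tb RJ) (1506 * 200) 200 = true := by decide +kernel
theorem ck1507 : rangeAll (chkAtT pt 12 tb RJ) (1507 * 200) 200 = true := by decide +kernel
theorem ck1508 : rangeAll (chkAtT pt 12 tb RJ) (1508 * 200) 200 = true := by decide +kernel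
theorem ck1509 : rangeAll (chkAtT pt 12 tb RJ) (1509 * 200) 200 = true := by decide +kernel
theorem ck1510 : rangeAll (chkAtT pt 12 tb RJ) (1510 * 200) 200 = true := by decide +kernel
theorem ck1511 : rangeAll (chkAtT pt 12 tb RJ) (1511 * 200) 200 = true := by decide +kernel
theorem ck1512 : rangeAll (chkAtT pt 12 tb RJ) (1512 * 200) 200 = true := by decide +kernel
theorem ck1513 : rangeAll (chkAtT pt 12 tb RJ) (1513 * 200) 200 = true := by decide +kernel
theorem ck1514 : rangeAll (chkAtT pt 12 tb RJ) (1514 * 200) 200 = true := by decide +kernel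
theorem ck1515 : rangeAll (chkAtT pt 12 tb RJ) (1515 * 200) 200 = true := by decide +kernel
theorem ck1516 : rangeAll (chkAtT pt 12 tb RJ) (1516 * 200) 200 = true := by decide +kernel
theorem ck1517 : rangeAll (chkAtT pt 12 tb RJ) (1517 * 200) 200 = true := by decide +kernel
theorem ck1518 : rangeAll (chkAtT pt 12 tb RJ) (1518 * 200) 200 = true := by decide +kernel
theorem ck1519 : rangeAll (chkAtT pt 12 tb RJ) (1519 * 200) 200 = true := by decide +kernel
theorem ck1520 : rangeAll (chkAtT pt 12 tb RJ) (1520 * 200) 200 = true := by decide +kernel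
theorem ck1521 : rangeAll (chkAtT pt 12 tb RJ) (1521 * 200) 200 = true := by decide +kernel
theorem ck1522 : rangeAll (chkAtT pt 12 tb RJ) (1522 * 200) 200 = true := by decide +kernel
theorem ck1523 : rangeAll (chkAtT pt 12 tb RJ) (1523 * 200) 200 = true := by decide +kernel
theorem ck1524 : rangeAll (chkAtT pt 12 tb RJ) (1524 * 200) 200 = true := by decide +kernel
theorem ck1525 : rangeAll (chkAtT pt 12 tb RJ) (1525 * 200) 200 = true := by decide +kernel
theorem ck1526 : rangeAll (chkAtT pt 12 tb RJ) (1526 * 200) 200 = true := by decide +kernel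
theorem ck1527 : rangeAll (chkAtT pt 12 tb RJ) (1527 * 200) 200 = true := by decide +kernel
theorem ck1528 : rangeAll (chkAtT pt 12 tb RJ) (1528 * 200) 200 = true := by decide +kernel
theorem ck1529 : rangeAll (chkAtT pt 12 tb RJ) (1529 * 200) 200 = true := by decide +kernel
theorem ck1530 : rangeAll (chkAtT pt 12 tb RJ) (1530 * 200) 200 = true := by decide +kernel
theorem ck1531 : rangeAll (chkAtT pt 12 tb RJ) (1531 * 200) 200 = true := by decide +kernel
theorem ck1532 : rangeAll (chkAtT pt 12 tb RJ) (1532 * 200) 200 = true := by decide +kernel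
theorem ck1533 : rangeAll (chkAtT pt 12 tb RJ) (1533 * 200) 200 = true := by decide +kernel
theorem ckrem : rangeAll (chkAtT pt 12 tb RJ) (1534 * 200) 136 = true := by decide +kernel

end Cfsg.Agent.Lib.Schur.Cover.Fi24T
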