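import Cfsg.Agent.Lib.Schur.Cover.Fi24T.Tab
import Cfsg.Agent.Lib.TC.G.Fi24

set_option autoImplicit false
set_option maxRecDepth 100000
set_option maxHeartbeats 0
set_option Elab.async false

namespace Cfsg.Agent.Lib.Schur.Cover.Fi24T

open Cfsg.Agent.Lib.Schur.CoverTw Cfsg.Agent.Lib.PermComp.Kron
open Cfsg.Agent.Lib.TC.D.Fi24a.Tab (pt)

theorem ck195 : rangeAll (chkAtT pt 12 tb RJ) (195 * 200) 200 = true := by decide +kernel
theorem ck196 : rangeAll (chkAtT pt 12 tb RJ) (196 * 200) 200 = true := by decide +kernel
theorem ck197 : rangeAll (chkAtT pt 12 tb RJ) (197 * 200) 200 = true := by decide +kernel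
theorem ck198 : rangeAll (chkAtT pt 12 tb RJ) (198 * 200) 200 = true := by decide +kernel
theorem ck199 : rangeAll (chkAtT pt 12 tb RJ) (199 * 200) 200 = true := by decide +kernel
theorem ck200 : rangeAll (chkAtT pt 12 tb RJ) (200 * 200) 200 = true := by decide +kernel
theorem ck201 : rangeAll (chkAtT pt 12 tb RJ) (201 * 200) 200 = true := by decide +kernel
theorem ck202 : rangeAll (chkAtT pt 12 tb RJ) (202 * 200) 200 = true := by decide +kernel
theorem ck203 : rangeAll (chkAtT pt 12 tb RJ) (203 * 200) 200 = true := by decide +kernel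
theorem ck204 : rangeAll (chkAtT pt 12 tb RJ) (204 * 200) 200 = true := by decide +kernel
theorem ck205 : rangeAll (chkAtT pt 12 tb RJ) (205 * 200) 200 = true := by decide +kernel
theorem ck206 : rangeAll (chkAtT pt 12 tb RJ) (206 * 200) 200 = true := by decide +kernel
theorem ck207 : rangeAll (chkAtT pt 12 tb RJ) (207 * 200) 200 = true := by decide +kernel
theorem ck208 : rangeAll (chkAtT pt 12 tb RJ) (208 * 200) 200 = true := by decide +kernel
theorem ck209 : rangeAll (chkAtT pt 12 tb RJ) (209 * 200) 200 = true := by decide +kernel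
theorem ck210 : rangeAll (chkAtT pt 12 tb RJ) (210 * 200) 200 = true := by decide +kernel
theorem ck211 : rangeAll (chkAtT pt 12 tb RJ) (211 * 200) 200 = true := by decide +kernel
theorem ck212 : rangeAll (chkAtT pt 12 tb RJ) (212 * 200) 200 = true := by decide +kernel
theorem ck213 : rangeAll (chkAtT pt 12 tb RJ) (213 * 200) 200 = true := by decide +kernel
theorem ck214 : rangeAll (chkAtT pt 12 tb RJ) (214 * 200) 200 = true := by decide +kernel
theorem ck215 : rangeAll (chkAtT pt 12 tb RJ) (215 * 200) 200 = true := by decide +kernel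
theorem ck216 : rangeAll (chkAtT pt 12 tb RJ) (216 * 200) 200 = true := by decide +kernel
theorem ck217 : rangeAll (chkAtT pt 12 tb RJ) (217 * 200) 200 = true := by decide +kernel
theorem ck218 : rangeAll (chkAtT pt 12 tb RJ) (218 * 200) 200 = true := by decide +kernel
theorem ck219 : rangeAll (chkAtT pt 12 tb RJ) (219 * 200) 200 = true := by decide +kernel
theorem ck220 : rangeAll (chkAtT pt 12 tb RJ) (220 * 200) 200 = true := by decide +kernel
theorem ck221 : rangeAll (chkAtT pt 12 tb RJ) (221 * 200) 200 = true := by decide +kernel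
theorem ck222 : rangeAll (chkAtT pt 12 tb RJ) (222 * 200) 200 = true := by decide +kernel
theorem ck223 : rangeAll (chkAtT pt 12 tb RJ) (223 * 200) 200 = true := by decide +kernel
theorem ck224 : rangeAll (chkAtT pt 12 tb RJ) (224 * 200) 200 = true := by decide +kernel
theorem ck225 : rangeAll (chkAtT pt 12 tb RJ) (225 * 200) 200 = true := by decide +kernel
theorem ck226 : rangeAll (chkAtT pt 12 tb RJ) (226 * 200) 200 = true := by decide +kernel
theorem ck227 : rangeAll (chkAtT pt 12 tb RJ) (227 * 200) 200 = true := by decide +kernel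
theorem ck228 : rangeAll (chkAtT pt 12 tb RJ) (228 * 200) 200 = true := by decide +kernel
theorem ck229 : rangeAll (chkAtT pt 12 tb RJ) (229 * 200) 200 = true := by decide +kernel
theorem ck230 : rangeAll (chkAtT pt 12 tb RJ) (230 * 200) 200 = true := by decide +kernel
theorem ck231 : rangeAll (chkAtT pt 12 tb RJ) (231 * 200) 200 = true := by decide +kernel
theorem ck232 : rangeAll (chkAtT pt 12 tb RJ) (232 * 200) 200 = true := by decide +kernel
theorem ck233 : rangeAll (chkAtT pt 12 tb RJ) (233 * 200) 200 = true := by decide +kernel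
theorem ck234 : rangeAll (chkAtT pt 12 tb RJ) (234 * 200) 200 = true := by decide +kernel
theorem ck235 : rangeAll (chkAtT pt 12 tb RJ) (235 * 200) 200 = true := by decide +kernel
theorem ck236 : rangeAll (chkAtT pt 12 tb RJ) (236 * 200) 200 = true := by decide +kernel
theorem ck237 : rangeAll (chkAtT pt 12 tb RJ) (237 * 200) 200 = true := by decide +kernel
theorem ck238 : rangeAll (chkAtT pt 12 tb RJ) (238 * 200) 200 = true := by decide +kernel
theorem ck239 : rangeAll (chkAtT pt 12 tb RJ) (239 * 200) 200 = true := by decide +kernel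
theorem ck240 : rangeAll (chkAtT pt 12 tb RJ) (240 * 200) 200 = true := by decide +kernel
theorem ck241 : rangeAll (chkAtT pt 12 tb RJ) (241 * 200) 200 = true := by decide +kernel
theorem ck242 : rangeAll (chkAtT pt 12 tb RJ) (242 * 200) 200 = true := by decide +kernel
theorem ck243 : rangeAll (chkAtT pt 12 tb RJ) (243 * 200) 200 = true := by decide +kernel
theorem ck244 : rangeAll (chkAtT pt 12 tb RJ) (244 * 200) 200 = true := by decide +kernel
theorem ck245 : rangeAll (chkAtT pt 12 tb RJ) (245 * 200) 200 = true := by decide +kernel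
theorem ck246 : rangeAll (chkAtT pt 12 tb RJ) (246 * 200) 200 = true := by decide +kernel
theorem ck247 : rangeAll (chkAtT pt 12 tb RJ) (247 * 200) 200 = true := by decide +kernel
theorem ck248 : rangeAll (chkAtT pt 12 tb RJ) (248 * 200) 200 = true := by decide +kernel
theorem ck249 : rangeAll (chkAtT pt 12 tb RJ) (249 * 200) 200 = true := by decide +kernel
theorem ck250 : rangeAll (chkAtT pt 12 tb RJ) (250 * 200) 200 = true := by decide +kernel
theorem ck251 : rangeAll (chkAtT pt 12 tb RJ) (251 * 200) 200 = true := by decide +kernel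
theorem ck252 : rangeAll (chkAtT pt 12 tb RJ) (252 * 200) 200 = true := by decide +kernel
theorem ck253 : rangeAll (chkAtT pt 12 tb RJ) (253 * 200) 200 = true := by decide +kernel
theorem ck254 : rangeAll (chkAtT pt 12 tb RJ) (254 * 200) 200 = true := by decide +kernel
theorem ck255 : rangeAll (chkAtT pt 12 tb RJ) (255 * 200) 200 = true := by decide +kernel
theorem ck256 : rangeAll (chkAtT pt 12 tb RJ) (256 * 200) 200 = true := by decide +kernel
theorem ck257 : rangeAll (chkAtT pt 12 tb RJ) (257 * 200) 200 = true := by decide +kernel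
theorem ck258 : rangeAll (chkAtT pt 12 tb RJ) (258 * 200) 200 = true := by decide +kernel
theorem ck259 : rangeAll (chkAtT pt 12 tb RJ) (259 * 200) 200 = true := by decide +kernel

end Cfsg.Agent.Lib.Schur.Cover.Fi24T
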