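import Cfsg.Agent.Lib.Schur.Cover.Fi24T.Tab
import Cfsg.Agent.Lib.TC.G.Fi24

set_option autoImplicit false
set_option maxRecDepth 100000
set_option maxHeartbeats 0
set_option Elab.async false

namespace Cfsg.Agent.Lib.Schur.Cover.Fi24T

open Cfsg.Agent.Lib.Schur.CoverTw Cfsg.Agent.Lib.PermComp.Kron
open Cfsg.Agent.Lib.TC.D.Fi24a.Tab (pt)

theorem ck260 : rangeAll (chkAtT pt 12 tb RJ) (260 * 200) 200 = true := by decide +kernel
theorem ck261 : rangeAll (chkAtT pt 12 tb RJ) (261 * 200) 200 = true := by decide +kernel
theorem ck262 : rangeAll (chkAtT pt 12 tb RJ) (262 * 200) 200 = true := by decide +kernel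
theorem ck263 : rangeAll (chkAtT pt 12 tb RJ) (263 * 200) 200 = true := by decide +kernel
theorem ck264 : rangeAll (chkAtT pt 12 tb RJ) (264 * 200) 200 = true := by decide +kernel
theorem ck265 : rangeAll (chkAtT pt 12 tb RJ) (265 * 200) 200 = true := by decide +kernel
theorem ck266 : rangeAll (chkAtT pt 12 tb RJ) (266 * 200) 200 = true := by decide +kernel
theorem ck267 : rangeAll (chkAtT pt 12 tb RJ) (267 * 200) 200 = true := by decide +kernel
theorem ck268 : rangeAll (chkAtT pt 12 tb RJ) (268 * 200) 200 = true := by decide +kernel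
theorem ck269 : rangeAll (chkAtT pt 12 tb RJ) (269 * 200) 200 = true := by decide +kernel
theorem ck270 : rangeAll (chkAtT pt 12 tb RJ) (270 * 200) 200 = true := by decide +kernel
theorem ck271 : rangeAll (chkAtT pt 12 tb RJ) (271 * 200) 200 = true := by decide +kernel
theorem ck272 : rangeAll (chkAtT pt 12 tb RJ) (272 * 200) 200 = true := by decide +kernel
theorem ck273 : rangeAll (chkAtT pt 12 tb RJ) (273 * 200) 200 = true := by decide +kernel
theorem ck274 : rangeAll (chkAtT pt 12 tb RJ) (274 * 200) 200 = true := by decide +kernel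
theorem ck275 : rangeAll (chkAtT pt 12 tb RJ) (275 * 200) 200 = true := by decide +kernel
theorem ck276 : rangeAll (chkAtT pt 12 tb RJ) (276 * 200) 200 = true := by decide +kernel
theorem ck277 : rangeAll (chkAtT pt 12 tb RJ) (277 * 200) 200 = true := by decide +kernel
theorem ck278 : rangeAll (chkAtT pt 12 tb RJ) (278 * 200) 200 = true := by decide +kernel
theorem ck279 : rangeAll (chkAtT pt 12 tb RJ) (279 * 200) 200 = true := by decide +kernel
theorem ck280 : rangeAll (chkAtT pt 12 tb RJ) (280 * 200) 200 = true := by decide +kernel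
theorem ck281 : rangeAll (chkAtT pt 12 tb RJ) (281 * 200) 200 = true := by decide +kernel
theorem ck282 : rangeAll (chkAtT pt 12 tb RJ) (282 * 200) 200 = true := by decide +kernel
theorem ck283 : rangeAll (chkAtT pt 12 tb RJ) (283 * 200) 200 = true := by decide +kernel
theorem ck284 : rangeAll (chkAtT pt 12 tb RJ) (284 * 200) 200 = true := by decide +kernel
theorem ck285 : rangeAll (chkAtT pt 12 tb RJ) (285 * 200) 200 = true := by decide +kernel
theorem ck286 : rangeAll (chkAtT pt 12 tb RJ) (286 * 200) 200 = true := by decide +kernel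
theorem ck287 : rangeAll (chkAtT pt 12 tb RJ) (287 * 200) 200 = true := by decide +kernel
theorem ck288 : rangeAll (chkAtT pt 12 tb RJ) (288 * 200) 200 = true := by decide +kernel
theorem ck289 : rangeAll (chkAtT pt 12 tb RJ) (289 * 200) 200 = true := by decide +kernel
theorem ck290 : rangeAll (chkAtT pt 12 tb RJ) (290 * 200) 200 = true := by decide +kernel
theorem ck291 : rangeAll (chkAtT pt 12 tb RJ) (291 * 200) 200 = true := by decide +kernel
theorem ck292 : rangeAll (chkAtT pt 12 tb RJ) (292 * 200) 200 = true := by decide +kernel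
theorem ck293 : rangeAll (chkAtT pt 12 tb RJ) (293 * 200) 200 = true := by decide +kernel
theorem ck294 : rangeAll (chkAtT pt 12 tb RJ) (294 * 200) 200 = true := by decide +kernel
theorem ck295 : rangeAll (chkAtT pt 12 tb RJ) (295 * 200) 200 = true := by decide +kernel
theorem ck296 : rangeAll (chkAtT pt 12 tb RJ) (296 * 200) 200 = true := by decide +kernel
theorem ck297 : rangeAll (chkAtT pt 12 tb RJ) (297 * 200) 200 = true := by decide +kernel
theorem ck298 : rangeAll (chkAtT pt 12 tb RJ) (298 * 200) 200 = true := by decide +kernel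
theorem ck299 : rangeAll (chkAtT pt 12 tb RJ) (299 * 200) 200 = true := by decide +kernel
theorem ck300 : rangeAll (chkAtT pt 12 tb RJ) (300 * 200) 200 = true := by decide +kernel
theorem ck301 : rangeAll (chkAtT pt 12 tb RJ) (301 * 200) 200 = true := by decide +kernel
theorem ck302 : rangeAll (chkAtT pt 12 tb RJ) (302 * 200) 200 = true := by decide +kernel
theorem ck303 : rangeAll (chkAtT pt 12 tb RJ) (303 * 200) 200 = true := by decide +kernel
theorem ck304 : rangeAll (chkAtT pt 12 tb RJ) (304 * 200) 200 = true := by decide +kernel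
theorem ck305 : rangeAll (chkAtT pt 12 tb RJ) (305 * 200) 200 = true := by decide +kernel
theorem ck306 : rangeAll (chkAtT pt 12 tb RJ) (306 * 200) 200 = true := by decide +kernel
theorem ck307 : rangeAll (chkAtT pt 12 tb RJ) (307 * 200) 200 = true := by decide +kernel
theorem ck308 : rangeAll (chkAtT pt 12 tb RJ) (308 * 200) 200 = true := by decide +kernel
theorem ck309 : rangeAll (chkAtT pt 12 tb RJ) (309 * 200) 200 = true := by decide +kernel
theorem ck310 : rangeAll (chkAtT pt 12 tb RJ) (310 * 200) 200 = true := by decide +kernel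
theorem ck311 : rangeAll (chkAtT pt 12 tb RJ) (311 * 200) 200 = true := by decide +kernel
theorem ck312 : rangeAll (chkAtT pt 12 tb RJ) (312 * 200) 200 = true := by decide +kernel
theorem ck313 : rangeAll (chkAtT pt 12 tb RJ) (313 * 200) 200 = true := by decide +kernel
theorem ck314 : rangeAll (chkAtT pt 12 tb RJ) (314 * 200) 200 = true := by decide +kernel
theorem ck315 : rangeAll (chkAtT pt 12 tb RJ) (315 * 200) 200 = true := by decide +kernel
theorem ck316 : rangeAll (chkAtT pt 12 tb RJ) (316 * 200) 200 = true := by decide +kernel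
theorem ck317 : rangeAll (chkAtT pt 12 tb RJ) (317 * 200) 200 = true := by decide +kernel
theorem ck318 : rangeAll (chkAtT pt 12 tb RJ) (318 * 200) 200 = true := by decide +kernel
theorem ck319 : rangeAll (chkAtT pt 12 tb RJ) (319 * 200) 200 = true := by decide +kernel
theorem ck320 : rangeAll (chkAtT pt 12 tb RJ) (320 * 200) 200 = true := by decide +kernel
theorem ck321 : rangeAll (chkAtT pt 12 tb RJ) (321 * 200) 200 = true := by decide +kernel
theorem ck322 : rangeAll (chkAtT pt 12 tb RJ) (322 * 200) 200 = true := by decide +kernel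
theorem ck323 : rangeAll (chkAtT pt 12 tb RJ) (323 * 200) 200 = true := by decide +kernel
theorem ck324 : rangeAll (chkAtT pt 12 tb RJ) (324 * 200) 200 = true := by decide +kernel

end Cfsg.Agent.Lib.Schur.Cover.Fi24T
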