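import Cfsg.Agent.Lib.Schur.Cover.Fi24T.Tab
import Cfsg.Agent.Lib.TC.G.Fi24

set_option autoImplicit false
set_option maxRecDepth 100000
set_option maxHeartbeats 0
set_option Elab.async false

namespace Cfsg.Agent.Lib.Schur.Cover.Fi24T

open Cfsg.Agent.Lib.Schur.CoverTw Cfsg.Agent.Lib.PermComp.Kron
open Cfsg.Agent.Lib.TC.D.Fi24a.Tab (pt)

theorem ck325 : rangeAll (chkAtT pt 12 tb RJ) (325 * 200) 200 = true := by decide +kernel
theorem ck326 : rangeAll (chkAtT pt 12 tb RJ) (326 * 200) 200 = true := by decide +kernel
theorem ck327 : rangeAll (chkAtT pt 12 tb RJ) (327 * 200) 200 = true := by decide +kernel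
theorem ck328 : rangeAll (chkAtT pt 12 tb RJ) (328 * 200) 200 = true := by decide +kernel
theorem ck329 : rangeAll (chkAtT pt 12 tb RJ) (329 * 200) 200 = true := by decide +kernel
theorem ck330 : rangeAll (chkAtT pt 12 tb RJ) (330 * 200) 200 = true := by decide +kernel
theorem ck331 : rangeAll (chkAtT pt 12 tb RJ) (331 * 200) 200 = true := by decide +kernel
theorem ck332 : rangeAll (chkAtT pt 12 tb RJ) (332 * 200) 200 = true := by decide +kernel
theorem ck333 : rangeAll (chkAtT pt 12 tb RJ) (333 * 200) 200 = true := by decide +kernel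
theorem ck334 : rangeAll (chkAtT pt 12 tb RJ) (334 * 200) 200 = true := by decide +kernel
theorem ck335 : rangeAll (chkAtT pt 12 tb RJ) (335 * 200) 200 = true := by decide +kernel
theorem ck336 : rangeAll (chkAtT pt 12 tb RJ) (336 * 200) 200 = true := by decide +kernel
theorem ck337 : rangeAll (chkAtT pt 12 tb RJ) (337 * 200) 200 = true := by decide +kernel
theorem ck338 : rangeAll (chkAtT pt 12 tb RJ) (338 * 200) 200 = true := by decide +kernel
theorem ck339 : rangeAll (chkAtT pt 12 tb RJ) (339 * 200) 200 = true := by decide +kernel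
theorem ck340 : rangeAll (chkAtT pt 12 tb RJ) (340 * 200) 200 = true := by decide +kernel
theorem ck341 : rangeAll (chkAtT pt 12 tb RJ) (341 * 200) 200 = true := by decide +kernel
theorem ck342 : rangeAll (chkAtT pt 12 tb RJ) (342 * 200) 200 = true := by decide +kernel
theorem ck343 : rangeAll (chkAtT pt 12 tb RJ) (343 * 200) 200 = true := by decide +kernel
theorem ck344 : rangeAll (chkAtT pt 12 tb RJ) (344 * 200) 200 = true := by decide +kernel
theorem ck345 : rangeAll (chkAtT pt 12 tb RJ) (345 * 200) 200 = true := by decide +kernel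
theorem ck346 : rangeAll (chkAtT pt 12 tb RJ) (346 * 200) 200 = true := by decide +kernel
theorem ck347 : rangeAll (chkAtT pt 12 tb RJ) (347 * 200) 200 = true := by decide +kernel
theorem ck348 : rangeAll (chkAtT pt 12 tb RJ) (348 * 200) 200 = true := by decide +kernel
theorem ck349 : rangeAll (chkAtT pt 12 tb RJ) (349 * 200) 200 = true := by decide +kernel
theorem ck350 : rangeAll (chkAtT pt 12 tb RJ) (350 * 200) 200 = true := by decide +kernel
theorem ck351 : rangeAll (chkAtT pt 12 tb RJ) (351 * 200) 200 = true := by decide +kernel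
theorem ck352 : rangeAll (chkAtT pt 12 tb RJ) (352 * 200) 200 = true := by decide +kernel
theorem ck353 : rangeAll (chkAtT pt 12 tb RJ) (353 * 200) 200 = true := by decide +kernel
theorem ck354 : rangeAll (chkAtT pt 12 tb RJ) (354 * 200) 200 = true := by decide +kernel
theorem ck355 : rangeAll (chkAtT pt 12 tb RJ) (355 * 200) 200 = true := by decide +kernel
theorem ck356 : rangeAll (chkAtT pt 12 tb RJ) (356 * 200) 200 = true := by decide +kernel
theorem ck357 : rangeAll (chkAtT pt 12 tb RJ) (357 * 200) 200 = true := by decide +kernel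
theorem ck358 : rangeAll (chkAtT pt 12 tb RJ) (358 * 200) 200 = true := by decide +kernel
theorem ck359 : rangeAll (chkAtT pt 12 tb RJ) (359 * 200) 200 = true := by decide +kernel
theorem ck360 : rangeAll (chkAtT pt 12 tb RJ) (360 * 200) 200 = true := by decide +kernel
theorem ck361 : rangeAll (chkAtT pt 12 tb RJ) (361 * 200) 200 = true := by decide +kernel
theorem ck362 : rangeAll (chkAtT pt 12 tb RJ) (362 * 200) 200 = true := by decide +kernel
theorem ck363 : rangeAll (chkAtT pt 12 tb RJ) (363 * 200) 200 = true := by decide +kernel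
theorem ck364 : rangeAll (chkAtT pt 12 tb RJ) (364 * 200) 200 = true := by decide +kernel
theorem ck365 : rangeAll (chkAtT pt 12 tb RJ) (365 * 200) 200 = true := by decide +kernel
theorem ck366 : rangeAll (chkAtT pt 12 tb RJ) (366 * 200) 200 = true := by decide +kernel
theorem ck367 : rangeAll (chkAtT pt 12 tb RJ) (367 * 200) 200 = true := by decide +kernel
theorem ck368 : rangeAll (chkAtT pt 12 tb RJ) (368 * 200) 200 = true := by decide +kernel
theorem ck369 : rangeAll (chkAtT pt 12 tb RJ) (369 * 200) 200 = true := by decide +kernel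
theorem ck370 : rangeAll (chkAtT pt 12 tb RJ) (370 * 200) 200 = true := by decide +kernel
theorem ck371 : rangeAll (chkAtT pt 12 tb RJ) (371 * 200) 200 = true := by decide +kernel
theorem ck372 : rangeAll (chkAtT pt 12 tb RJ) (372 * 200) 200 = true := by decide +kernel
theorem ck373 : rangeAll (chkAtT pt 12 tb RJ) (373 * 200) 200 = true := by decide +kernel
theorem ck374 : rangeAll (chkAtT pt 12 tb RJ) (374 * 200) 200 = true := by decide +kernel
theorem ck375 : rangeAll (chkAtT pt 12 tb RJ) (375 * 200) 200 = true := by decide +kernel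
theorem ck376 : rangeAll (chkAtT pt 12 tb RJ) (376 * 200) 200 = true := by decide +kernel
theorem ck377 : rangeAll (chkAtT pt 12 tb RJ) (377 * 200) 200 = true := by decide +kernel
theorem ck378 : rangeAll (chkAtT pt 12 tb RJ) (378 * 200) 200 = true := by decide +kernel
theorem ck379 : rangeAll (chkAtT pt 12 tb RJ) (379 * 200) 200 = true := by decide +kernel
theorem ck380 : rangeAll (chkAtT pt 12 tb RJ) (380 * 200) 200 = true := by decide +kernel
theorem ck381 : rangeAll (chkAtT pt 12 tb RJ) (381 * 200) 200 = true := by decide +kernel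
theorem ck382 : rangeAll (chkAtT pt 12 tb RJ) (382 * 200) 200 = true := by decide +kernel
theorem ck383 : rangeAll (chkAtT pt 12 tb RJ) (383 * 200) 200 = true := by decide +kernel
theorem ck384 : rangeAll (chkAtT pt 12 tb RJ) (384 * 200) 200 = true := by decide +kernel
theorem ck385 : rangeAll (chkAtT pt 12 tb RJ) (385 * 200) 200 = true := by decide +kernel
theorem ck386 : rangeAll (chkAtT pt 12 tb RJ) (386 * 200) 200 = true := by decide +kernel
theorem ck387 : rangeAll (chkAtT pt 12 tb RJ) (387 * 200) 200 = true := by decide +kernel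
theorem ck388 : rangeAll (chkAtT pt 12 tb RJ) (388 * 200) 200 = true := by decide +kernel
theorem ck389 : rangeAll (chkAtT pt 12 tb RJ) (389 * 200) 200 = true := by decide +kernel

end Cfsg.Agent.Lib.Schur.Cover.Fi24T
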