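import Cfsg.Agent.Lib.Schur.Cover.Fi24T.Tab
import Cfsg.Agent.Lib.TC.G.Fi24

set_option autoImplicit false
set_option maxRecDepth 100000
set_option maxHeartbeats 0
set_option Elab.async false

namespace Cfsg.Agent.Lib.Schur.Cover.Fi24T

open Cfsg.Agent.Lib.Schur.CoverTw Cfsg.Agent.Lib.PermComp.Kron
open Cfsg.Agent.Lib.TC.D.Fi24a.Tab (pt)

theorem ck390 : rangeAll (chkAtT pt 12 tb RJ) (390 * 200) 200 = true := by decide +kernel
theorem ck391 : rangeAll (chkAtT pt 12 tb RJ) (391 * 200) 200 = true := by decide +kernel
theorem ck392 : rangeAll (chkAtT pt 12 tb RJ) (392 * 200) 200 = true := by decide +kernel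
theorem ck393 : rangeAll (chkAtT pt 12 tb RJ) (393 * 200) 200 = true := by decide +kernel
theorem ck394 : rangeAll (chkAtT pt 12 tb RJ) (394 * 200) 200 = true := by decide +kernel
theorem ck395 : rangeAll (chkAtT pt 12 tb RJ) (395 * 200) 200 = true := by decide +kernel
theorem ck396 : rangeAll (chkAtT pt 12 tb RJ) (396 * 200) 200 = true := by decide +kernel
theorem ck397 : rangeAll (chkAtT pt 12 tb RJ) (397 * 200) 200 = true := by decide +kernel
theorem ck398 : rangeAll (chkAtT pt 12 tb RJ) (398 * 200) 200 = true := by decide +kernel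
theorem ck399 : rangeAll (chkAtT pt 12 tb RJ) (399 * 200) 200 = true := by decide +kernel
theorem ck400 : rangeAll (chkAtT pt 12 tb RJ) (400 * 200) 200 = true := by decide +kernel
theorem ck401 : rangeAll (chkAtT pt 12 tb RJ) (401 * 200) 200 = true := by decide +kernel
theorem ck402 : rangeAll (chkAtT pt 12 tb RJ) (402 * 200) 200 = true := by decide +kernel
theorem ck403 : rangeAll (chkAtT pt 12 tb RJ) (403 * 200) 200 = true := by decide +kernel
theorem ck404 : rangeAll (chkAtT pt 12 tb RJ) (404 * 200) 200 = true := by decide +kernel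
theorem ck405 : rangeAll (chkAtT pt 12 tb RJ) (405 * 200) 200 = true := by decide +kernel
theorem ck406 : rangeAll (chkAtT pt 12 tb RJ) (406 * 200) 200 = true := by decide +kernel
theorem ck407 : rangeAll (chkAtT pt 12 tb RJ) (407 * 200) 200 = true := by decide +kernel
theorem ck408 : rangeAll (chkAtT pt 12 tb RJ) (408 * 200) 200 = true := by decide +kernel
theorem ck409 : rangeAll (chkAtT pt 12 tb RJ) (409 * 200) 200 = true := by decide +kernel
theorem ck410 : rangeAll (chkAtT pt 12 tb RJ) (410 * 200) 200 = true := by decide +kernel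
theorem ck411 : rangeAll (chkAtT pt 12 tb RJ) (411 * 200) 200 = true := by decide +kernel
theorem ck412 : rangeAll (chkAtT pt 12 tb RJ) (412 * 200) 200 = true := by decide +kernel
theorem ck413 : rangeAll (chkAtT pt 12 tb RJ) (413 * 200) 200 = true := by decide +kernel
theorem ck414 : rangeAll (chkAtT pt 12 tb RJ) (414 * 200) 200 = true := by decide +kernel
theorem ck415 : rangeAll (chkAtT pt 12 tb RJ) (415 * 200) 200 = true := by decide +kernel
theorem ck416 : rangeAll (chkAtT pt 12 tb RJ) (416 * 200) 200 = true := by decide +kernel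
theorem ck417 : rangeAll (chkAtT pt 12 tb RJ) (417 * 200) 200 = true := by decide +kernel
theorem ck418 : rangeAll (chkAtT pt 12 tb RJ) (418 * 200) 200 = true := by decide +kernel
theorem ck419 : rangeAll (chkAtT pt 12 tb RJ) (419 * 200) 200 = true := by decide +kernel
theorem ck420 : rangeAll (chkAtT pt 12 tb RJ) (420 * 200) 200 = true := by decide +kernel
theorem ck421 : rangeAll (chkAtT pt 12 tb RJ) (421 * 200) 200 = true := by decide +kernel
theorem ck422 : rangeAll (chkAtT pt 12 tb RJ) (422 * 200) 200 = true := by decide +kernel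
theorem ck423 : rangeAll (chkAtT pt 12 tb RJ) (423 * 200) 200 = true := by decide +kernel
theorem ck424 : rangeAll (chkAtT pt 12 tb RJ) (424 * 200) 200 = true := by decide +kernel
theorem ck425 : rangeAll (chkAtT pt 12 tb RJ) (425 * 200) 200 = true := by decide +kernel
theorem ck426 : rangeAll (chkAtT pt 12 tb RJ) (426 * 200) 200 = true := by decide +kernel
theorem ck427 : rangeAll (chkAtT pt 12 tb RJ) (427 * 200) 200 = true := by decide +kernel
theorem ck428 : rangeAll (chkAtT pt 12 tb RJ) (428 * 200) 200 = true := by decide +kernel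
theorem ck429 : rangeAll (chkAtT pt 12 tb RJ) (429 * 200) 200 = true := by decide +kernel
theorem ck430 : rangeAll (chkAtT pt 12 tb RJ) (430 * 200) 200 = true := by decide +kernel
theorem ck431 : rangeAll (chkAtT pt 12 tb RJ) (431 * 200) 200 = true := by decide +kernel
theorem ck432 : rangeAll (chkAtT pt 12 tb RJ) (432 * 200) 200 = true := by decide +kernel
theorem ck433 : rangeAll (chkAtT pt 12 tb RJ) (433 * 200) 200 = true := by decide +kernel
theorem ck434 : rangeAll (chkAtT pt 12 tb RJ) (434 * 200) 200 = true := by decide +kernel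
theorem ck435 : rangeAll (chkAtT pt 12 tb RJ) (435 * 200) 200 = true := by decide +kernel
theorem ck436 : rangeAll (chkAtT pt 12 tb RJ) (436 * 200) 200 = true := by decide +kernel
theorem ck437 : rangeAll (chkAtT pt 12 tb RJ) (437 * 200) 200 = true := by decide +kernel
theorem ck438 : rangeAll (chkAtT pt 12 tb RJ) (438 * 200) 200 = true := by decide +kernel
theorem ck439 : rangeAll (chkAtT pt 12 tb RJ) (439 * 200) 200 = true := by decide +kernel
theorem ck440 : rangeAll (chkAtT pt 12 tb RJ) (440 * 200) 200 = true := by decide +kernel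
theorem ck441 : rangeAll (chkAtT pt 12 tb RJ) (441 * 200) 200 = true := by decide +kernel
theorem ck442 : rangeAll (chkAtT pt 12 tb RJ) (442 * 200) 200 = true := by decide +kernel
theorem ck443 : rangeAll (chkAtT pt 12 tb RJ) (443 * 200) 200 = true := by decide +kernel
theorem ck444 : rangeAll (chkAtT pt 12 tb RJ) (444 * 200) 200 = true := by decide +kernel
theorem ck445 : rangeAll (chkAtT pt 12 tb RJ) (445 * 200) 200 = true := by decide +kernel
theorem ck446 : rangeAll (chkAtT pt 12 tb RJ) (446 * 200) 200 = true := by decide +kernel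
theorem ck447 : rangeAll (chkAtT pt 12 tb RJ) (447 * 200) 200 = true := by decide +kernel
theorem ck448 : rangeAll (chkAtT pt 12 tb RJ) (448 * 200) 200 = true := by decide +kernel
theorem ck449 : rangeAll (chkAtT pt 12 tb RJ) (449 * 200) 200 = true := by decide +kernel
theorem ck450 : rangeAll (chkAtT pt 12 tb RJ) (450 * 200) 200 = true := by decide +kernel
theorem ck451 : rangeAll (chkAtT pt 12 tb RJ) (451 * 200) 200 = true := by decide +kernel
theorem ck452 : rangeAll (chkAtT pt 12 tb RJ) (452 * 200) 200 = true := by decide +kernel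
theorem ck453 : rangeAll (chkAtT pt 12 tb RJ) (453 * 200) 200 = true := by decide +kernel
theorem ck454 : rangeAll (chkAtT pt 12 tb RJ) (454 * 200) 200 = true := by decide +kernel

end Cfsg.Agent.Lib.Schur.Cover.Fi24T
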