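import Cfsg.Agent.Lib.Schur.Cover.Fi24T.Tab
import Cfsg.Agent.Lib.TC.G.Fi24

set_option autoImplicit false
set_option maxRecDepth 100000
set_option maxHeartbeats 0
set_option Elab.async false

namespace Cfsg.Agent.Lib.Schur.Cover.Fi24T

open Cfsg.Agent.Lib.Schur.CoverTw Cfsg.Agent.Lib.PermComp.Kron
open Cfsg.Agent.Lib.TC.D.Fi24a.Tab (pt)

theorem ck455 : rangeAll (chkAtT pt 12 tb RJ) (455 * 200) 200 = true := by decide +kernel
theorem ck456 : rangeAll (chkAtT pt 12 tb RJ) (456 * 200) 200 = true := by decide +kernel
theorem ck457 : rangeAll (chkAtT pt 12 tb RJ) (457 * 200) 200 = true := by decide +kernel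
theorem ck458 : rangeAll (chkAtT pt 12 tb RJ) (458 * 200) 200 = true := by decide +kernel
theorem ck459 : rangeAll (chkAtT pt 12 tb RJ) (459 * 200) 200 = true := by decide +kernel
theorem ck460 : rangeAll (chkAtT pt 12 tb RJ) (460 * 200) 200 = true := by decide +kernel
theorem ck461 : rangeAll (chkAtT pt 12 tb RJ) (461 * 200) 200 = true := by decide +kernel
theorem ck462 : rangeAll (chkAtT pt 12 tb RJ) (462 * 200) 200 = true := by decide +kernel
theorem ck463 : rangeAll (chkAtT pt 12 tb RJ) (463 * 200) 200 = true := by decide +kernel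
theorem ck464 : rangeAll (chkAtT pt 12 tb RJ) (464 * 200) 200 = true := by decide +kernel
theorem ck465 : rangeAll (chkAtT pt 12 tb RJ) (465 * 200) 200 = true := by decide +kernel
theorem ck466 : rangeAll (chkAtT pt 12 tb RJ) (466 * 200) 200 = true := by decide +kernel
theorem ck467 : rangeAll (chkAtT pt 12 tb RJ) (467 * 200) 200 = true := by decide +kernel
theorem ck468 : rangeAll (chkAtT pt 12 tb RJ) (468 * 200) 200 = true := by decide +kernel
theorem ck469 : rangeAll (chkAtT pt 12 tb RJ) (469 * 200) 200 = true := by decide +kernel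
theorem ck470 : rangeAll (chkAtT pt 12 tb RJ) (470 * 200) 200 = true := by decide +kernel
theorem ck471 : rangeAll (chkAtT pt 12 tb RJ) (471 * 200) 200 = true := by decide +kernel
theorem ck472 : rangeAll (chkAtT pt 12 tb RJ) (472 * 200) 200 = true := by decide +kernel
theorem ck473 : rangeAll (chkAtT pt 12 tb RJ) (473 * 200) 200 = true := by decide +kernel
theorem ck474 : rangeAll (chkAtT pt 12 tb RJ) (474 * 200) 200 = true := by decide +kernel
theorem ck475 : rangeAll (chkAtT pt 12 tb RJ) (475 * 200) 200 = true := by decide +kernel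
theorem ck476 : rangeAll (chkAtT pt 12 tb RJ) (476 * 200) 200 = true := by decide +kernel
theorem ck477 : rangeAll (chkAtT pt 12 tb RJ) (477 * 200) 200 = true := by decide +kernel
theorem ck478 : rangeAll (chkAtT pt 12 tb RJ) (478 * 200) 200 = true := by decide +kernel
theorem ck479 : rangeAll (chkAtT pt 12 tb RJ) (479 * 200) 200 = true := by decide +kernel
theorem ck480 : rangeAll (chkAtT pt 12 tb RJ) (480 * 200) 200 = true := by decide +kernel
theorem ck481 : rangeAll (chkAtT pt 12 tb RJ) (481 * 200) 200 = true := by decide +kernel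
theorem ck482 : rangeAll (chkAtT pt 12 tb RJ) (482 * 200) 200 = true := by decide +kernel
theorem ck483 : rangeAll (chkAtT pt 12 tb RJ) (483 * 200) 200 = true := by decide +kernel
theorem ck484 : rangeAll (chkAtT pt 12 tb RJ) (484 * 200) 200 = true := by decide +kernel
theorem ck485 : rangeAll (chkAtT pt 12 tb RJ) (485 * 200) 200 = true := by decide +kernel
theorem ck486 : rangeAll (chkAtT pt 12 tb RJ) (486 * 200) 200 = true := by decide +kernel
theorem ck487 : rangeAll (chkAtT pt 12 tb RJ) (487 * 200) 200 = true := by decide +kernel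
theorem ck488 : rangeAll (chkAtT pt 12 tb RJ) (488 * 200) 200 = true := by decide +kernel
theorem ck489 : rangeAll (chkAtT pt 12 tb RJ) (489 * 200) 200 = true := by decide +kernel
theorem ck490 : rangeAll (chkAtT pt 12 tb RJ) (490 * 200) 200 = true := by decide +kernel
theorem ck491 : rangeAll (chkAtT pt 12 tb RJ) (491 * 200) 200 = true := by decide +kernel
theorem ck492 : rangeAll (chkAtT pt 12 tb RJ) (492 * 200) 200 = true := by decide +kernel
theorem ck493 : rangeAll (chkAtT pt 12 tb RJ) (493 * 200) 200 = true := by decide +kernel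
theorem ck494 : rangeAll (chkAtT pt 12 tb RJ) (494 * 200) 200 = true := by decide +kernel
theorem ck495 : rangeAll (chkAtT pt 12 tb RJ) (495 * 200) 200 = true := by decide +kernel
theorem ck496 : rangeAll (chkAtT pt 12 tb RJ) (496 * 200) 200 = true := by decide +kernel
theorem ck497 : rangeAll (chkAtT pt 12 tb RJ) (497 * 200) 200 = true := by decide +kernel
theorem ck498 : rangeAll (chkAtT pt 12 tb RJ) (498 * 200) 200 = true := by decide +kernel
theorem ck499 : rangeAll (chkAtT pt 12 tb RJ) (499 * 200) 200 = true := by decide +kernel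
theorem ck500 : rangeAll (chkAtT pt 12 tb RJ) (500 * 200) 200 = true := by decide +kernel
theorem ck501 : rangeAll (chkAtT pt 12 tb RJ) (501 * 200) 200 = true := by decide +kernel
theorem ck502 : rangeAll (chkAtT pt 12 tb RJ) (502 * 200) 200 = true := by decide +kernel
theorem ck503 : rangeAll (chkAtT pt 12 tb RJ) (503 * 200) 200 = true := by decide +kernel
theorem ck504 : rangeAll (chkAtT pt 12 tb RJ) (504 * 200) 200 = true := by decide +kernel
theorem ck505 : rangeAll (chkAtT pt 12 tb RJ) (505 * 200) 200 = true := by decide +kernel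
theorem ck506 : rangeAll (chkAtT pt 12 tb RJ) (506 * 200) 200 = true := by decide +kernel
theorem ck507 : rangeAll (chkAtT pt 12 tb RJ) (507 * 200) 200 = true := by decide +kernel
theorem ck508 : rangeAll (chkAtT pt 12 tb RJ) (508 * 200) 200 = true := by decide +kernel
theorem ck509 : rangeAll (chkAtT pt 12 tb RJ) (509 * 200) 200 = true := by decide +kernel
theorem ck510 : rangeAll (chkAtT pt 12 tb RJ) (510 * 200) 200 = true := by decide +kernel
theorem ck511 : rangeAll (chkAtT pt 12 tb RJ) (511 * 200) 200 = true := by decide +kernel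
theorem ck512 : rangeAll (chkAtT pt 12 tb RJ) (512 * 200) 200 = true := by decide +kernel
theorem ck513 : rangeAll (chkAtT pt 12 tb RJ) (513 * 200) 200 = true := by decide +kernel
theorem ck514 : rangeAll (chkAtT pt 12 tb RJ) (514 * 200) 200 = true := by decide +kernel
theorem ck515 : rangeAll (chkAtT pt 12 tb RJ) (515 * 200) 200 = true := by decide +kernel
theorem ck516 : rangeAll (chkAtT pt 12 tb RJ) (516 * 200) 200 = true := by decide +kernel
theorem ck517 : rangeAll (chkAtT pt 12 tb RJ) (517 * 200) 200 = true := by decide +kernel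
theorem ck518 : rangeAll (chkAtT pt 12 tb RJ) (518 * 200) 200 = true := by decide +kernel
theorem ck519 : rangeAll (chkAtT pt 12 tb RJ) (519 * 200) 200 = true := by decide +kernel

end Cfsg.Agent.Lib.Schur.Cover.Fi24T
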