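import Cfsg.Agent.Lib.Schur.Cover.Fi24T.Tab
import Cfsg.Agent.Lib.TC.G.Fi24

set_option autoImplicit false
set_option maxRecDepth 100000
set_option maxHeartbeats 0
set_option Elab.async false

namespace Cfsg.Agent.Lib.Schur.Cover.Fi24T

open Cfsg.Agent.Lib.Schur.CoverTw Cfsg.Agent.Lib.PermComp.Kron
open Cfsg.Agent.Lib.TC.D.Fi24a.Tab (pt)

theorem ck520 : rangeAll (chkAtT pt 12 tb RJ) (520 * 200) 200 = true := by decide +kernel
theorem ck521 : rangeAll (chkAtT pt 12 tb RJ) (521 * 200) 200 = true := by decide +kernel
theorem ck522 : rangeAll (chkAtT pt 12 tb RJ) (522 * 200) 200 = true := by decide +kernel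
theorem ck523 : rangeAll (chkAtT pt 12 tb RJ) (523 * 200) 200 = true := by decide +kernel
theorem ck524 : rangeAll (chkAtT pt 12 tb RJ) (524 * 200) 200 = true := by decide +kernel
theorem ck525 : rangeAll (chkAtT pt 12 tb RJ) (525 * 200) 200 = true := by decide +kernel
theorem ck526 : rangeAll (chkAtT pt 12 tb RJ) (526 * 200) 200 = true := by decide +kernel
theorem ck527 : rangeAll (chkAtT pt 12 tb RJ) (527 * 200) 200 = true := by decide +kernel
theorem ck528 : rangeAll (chkAtT pt 12 tb RJ) (528 * 200) 200 = true := by decide +kernel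
theorem ck529 : rangeAll (chkAtT pt 12 tb RJ) (529 * 200) 200 = true := by decide +kernel
theorem ck530 : rangeAll (chkAtT pt 12 tb RJ) (530 * 200) 200 = true := by decide +kernel
theorem ck531 : rangeAll (chkAtT pt 12 tb RJ) (531 * 200) 200 = true := by decide +kernel
theorem ck532 : rangeAll (chkAtT pt 12 tb RJ) (532 * 200) 200 = true := by decide +kernel
theorem ck533 : rangeAll (chkAtT pt 12 tb RJ) (533 * 200) 200 = true := by decide +kernel
theorem ck534 : rangeAll (chkAtT pt 12 tb RJ) (534 * 200) 200 = true := by decide +kernel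
theorem ck535 : rangeAll (chkAtT pt 12 tb RJ) (535 * 200) 200 = true := by decide +kernel
theorem ck536 : rangeAll (chkAtT pt 12 tb RJ) (536 * 200) 200 = true := by decide +kernel
theorem ck537 : rangeAll (chkAtT pt 12 tb RJ) (537 * 200) 200 = true := by decide +kernel
theorem ck538 : rangeAll (chkAtT pt 12 tb RJ) (538 * 200) 200 = true := by decide +kernel
theorem ck539 : rangeAll (chkAtT pt 12 tb RJ) (539 * 200) 200 = true := by decide +kernel
theorem ck540 : rangeAll (chkAtT pt 12 tb RJ) (540 * 200) 200 = true := by decide +kernel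
theorem ck541 : rangeAll (chkAtT pt 12 tb RJ) (541 * 200) 200 = true := by decide +kernel
theorem ck542 : rangeAll (chkAtT pt 12 tb RJ) (542 * 200) 200 = true := by decide +kernel
theorem ck543 : rangeAll (chkAtT pt 12 tb RJ) (543 * 200) 200 = true := by decide +kernel
theorem ck544 : rangeAll (chkAtT pt 12 tb RJ) (544 * 200) 200 = true := by decide +kernel
theorem ck545 : rangeAll (chkAtT pt 12 tb RJ) (545 * 200) 200 = true := by decide +kernel
theorem ck546 : rangeAll (chkAtT pt 12 tb RJ) (546 * 200) 200 = true := by decide +kernel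
theorem ck547 : rangeAll (chkAtT pt 12 tb RJ) (547 * 200) 200 = true := by decide +kernel
theorem ck548 : rangeAll (chkAtT pt 12 tb RJ) (548 * 200) 200 = true := by decide +kernel
theorem ck549 : rangeAll (chkAtT pt 12 tb RJ) (549 * 200) 200 = true := by decide +kernel
theorem ck550 : rangeAll (chkAtT pt 12 tb RJ) (550 * 200) 200 = true := by decide +kernel
theorem ck551 : rangeAll (chkAtT pt 12 tb RJ) (551 * 200) 200 = true := by decide +kernel
theorem ck552 : rangeAll (chkAtT pt 12 tb RJ) (552 * 200) 200 = true := by decide +kernel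
theorem ck553 : rangeAll (chkAtT pt 12 tb RJ) (553 * 200) 200 = true := by decide +kernel
theorem ck554 : rangeAll (chkAtT pt 12 tb RJ) (554 * 200) 200 = true := by decide +kernel
theorem ck555 : rangeAll (chkAtT pt 12 tb RJ) (555 * 200) 200 = true := by decide +kernel
theorem ck556 : rangeAll (chkAtT pt 12 tb RJ) (556 * 200) 200 = true := by decide +kernel
theorem ck557 : rangeAll (chkAtT pt 12 tb RJ) (557 * 200) 200 = true := by decide +kernel
theorem ck558 : rangeAll (chkAtT pt 12 tb RJ) (558 * 200) 200 = true := by decide +kernel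
theorem ck559 : rangeAll (chkAtT pt 12 tb RJ) (559 * 200) 200 = true := by decide +kernel
theorem ck560 : rangeAll (chkAtT pt 12 tb RJ) (560 * 200) 200 = true := by decide +kernel
theorem ck561 : rangeAll (chkAtT pt 12 tb RJ) (561 * 200) 200 = true := by decide +kernel
theorem ck562 : rangeAll (chkAtT pt 12 tb RJ) (562 * 200) 200 = true := by decide +kernel
theorem ck563 : rangeAll (chkAtT pt 12 tb RJ) (563 * 200) 200 = true := by decide +kernel
theorem ck564 : rangeAll (chkAtT pt 12 tb RJ) (564 * 200) 200 = true := by decide +kernel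
theorem ck565 : rangeAll (chkAtT pt 12 tb RJ) (565 * 200) 200 = true := by decide +kernel
theorem ck566 : rangeAll (chkAtT pt 12 tb RJ) (566 * 200) 200 = true := by decide +kernel
theorem ck567 : rangeAll (chkAtT pt 12 tb RJ) (567 * 200) 200 = true := by decide +kernel
theorem ck568 : rangeAll (chkAtT pt 12 tb RJ) (568 * 200) 200 = true := by decide +kernel
theorem ck569 : rangeAll (chkAtT pt 12 tb RJ) (569 * 200) 200 = true := by decide +kernel
theorem ck570 : rangeAll (chkAtT pt 12 tb RJ) (570 * 200) 200 = true := by decide +kernel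
theorem ck571 : rangeAll (chkAtT pt 12 tb RJ) (571 * 200) 200 = true := by decide +kernel
theorem ck572 : rangeAll (chkAtT pt 12 tb RJ) (572 * 200) 200 = true := by decide +kernel
theorem ck573 : rangeAll (chkAtT pt 12 tb RJ) (573 * 200) 200 = true := by decide +kernel
theorem ck574 : rangeAll (chkAtT pt 12 tb RJ) (574 * 200) 200 = true := by decide +kernel
theorem ck575 : rangeAll (chkAtT pt 12 tb RJ) (575 * 200) 200 = true := by decide +kernel
theorem ck576 : rangeAll (chkAtT pt 12 tb RJ) (576 * 200) 200 = true := by decide +kernel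
theorem ck577 : rangeAll (chkAtT pt 12 tb RJ) (577 * 200) 200 = true := by decide +kernel
theorem ck578 : rangeAll (chkAtT pt 12 tb RJ) (578 * 200) 200 = true := by decide +kernel
theorem ck579 : rangeAll (chkAtT pt 12 tb RJ) (579 * 200) 200 = true := by decide +kernel
theorem ck580 : rangeAll (chkAtT pt 12 tb RJ) (580 * 200) 200 = true := by decide +kernel
theorem ck581 : rangeAll (chkAtT pt 12 tb RJ) (581 * 200) 200 = true := by decide +kernel
theorem ck582 : rangeAll (chkAtT pt 12 tb RJ) (582 * 200) 200 = true := by decide +kernel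
theorem ck583 : rangeAll (chkAtT pt 12 tb RJ) (583 * 200) 200 = true := by decide +kernel
theorem ck584 : rangeAll (chkAtT pt 12 tb RJ) (584 * 200) 200 = true := by decide +kernel

end Cfsg.Agent.Lib.Schur.Cover.Fi24T
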