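import Cfsg.Agent.Lib.Schur.Cover.Fi24T.Tab
import Cfsg.Agent.Lib.TC.G.Fi24

set_option autoImplicit false
set_option maxRecDepth 100000
set_option maxHeartbeats 0
set_option Elab.async false

namespace Cfsg.Agent.Lib.Schur.Cover.Fi24T

open Cfsg.Agent.Lib.Schur.CoverTw Cfsg.Agent.Lib.PermComp.Kron
open Cfsg.Agent.Lib.TC.D.Fi24a.Tab (pt)

theorem ck585 : rangeAll (chkAtT pt 12 tb RJ) (585 * 200) 200 = true := by decide +kernel
theorem ck586 : rangeAll (chkAtT pt 12 tb RJ) (586 * 200) 200 = true := by decide +kernel
theorem ck587 : rangeAll (chkAtT pt 12 tb RJ) (587 * 200) 200 = true := by decide +kernel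
theorem ck588 : rangeAll (chkAtT pt 12 tb RJ) (588 * 200) 200 = true := by decide +kernel
theorem ck589 : rangeAll (chkAtT pt 12 tb RJ) (589 * 200) 200 = true := by decide +kernel
theorem ck590 : rangeAll (chkAtT pt 12 tb RJ) (590 * 200) 200 = true := by decide +kernel
theorem ck591 : rangeAll (chkAtT pt 12 tb RJ) (591 * 200) 200 = true := by decide +kernel
theorem ck592 : rangeAll (chkAtT pt 12 tb RJ) (592 * 200) 200 = true := by decide +kernel
theorem ck593 : rangeAll (chkAtT pt 12 tb RJ) (593 * 200) 200 = true := by decide +kernel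
theorem ck594 : rangeAll (chkAtT pt 12 tb RJ) (594 * 200) 200 = true := by decide +kernel
theorem ck595 : rangeAll (chkAtT pt 12 tb RJ) (595 * 200) 200 = true := by decide +kernel
theorem ck596 : rangeAll (chkAtT pt 12 tb RJ) (596 * 200) 200 = true := by decide +kernel
theorem ck597 : rangeAll (chkAtT pt 12 tb RJ) (597 * 200) 200 = true := by decide +kernel
theorem ck598 : rangeAll (chkAtT pt 12 tb RJ) (598 * 200) 200 = true := by decide +kernel
theorem ck599 : rangeAll (chkAtT pt 12 tb RJ) (599 * 200) 200 = true := by decide +kernel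
theorem ck600 : rangeAll (chkAtT pt 12 tb RJ) (600 * 200) 200 = true := by decide +kernel
theorem ck601 : rangeAll (chkAtT pt 12 tb RJ) (601 * 200) 200 = true := by decide +kernel
theorem ck602 : rangeAll (chkAtT pt 12 tb RJ) (602 * 200) 200 = true := by decide +kernel
theorem ck603 : rangeAll (chkAtT pt 12 tb RJ) (603 * 200) 200 = true := by decide +kernel
theorem ck604 : rangeAll (chkAtT pt 12 tb RJ) (604 * 200) 200 = true := by decide +kernel
theorem ck605 : rangeAll (chkAtT pt 12 tb RJ) (605 * 200) 200 = true := by decide +kernel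
theorem ck606 : rangeAll (chkAtT pt 12 tb RJ) (606 * 200) 200 = true := by decide +kernel
theorem ck607 : rangeAll (chkAtT pt 12 tb RJ) (607 * 200) 200 = true := by decide +kernel
theorem ck608 : rangeAll (chkAtT pt 12 tb RJ) (608 * 200) 200 = true := by decide +kernel
theorem ck609 : rangeAll (chkAtT pt 12 tb RJ) (609 * 200) 200 = true := by decide +kernel
theorem ck610 : rangeAll (chkAtT pt 12 tb RJ) (610 * 200) 200 = true := by decide +kernel
theorem ck611 : rangeAll (chkAtT pt 12 tb RJ) (611 * 200) 200 = true := by decide +kernel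
theorem ck612 : rangeAll (chkAtT pt 12 tb RJ) (612 * 200) 200 = true := by decide +kernel
theorem ck613 : rangeAll (chkAtT pt 12 tb RJ) (613 * 200) 200 = true := by decide +kernel
theorem ck614 : rangeAll (chkAtT pt 12 tb RJ) (614 * 200) 200 = true := by decide +kernel
theorem ck615 : rangeAll (chkAtT pt 12 tb RJ) (615 * 200) 200 = true := by decide +kernel
theorem ck616 : rangeAll (chkAtT pt 12 tb RJ) (616 * 200) 200 = true := by decide +kernel
theorem ck617 : rangeAll (chkAtT pt 12 tb RJ) (617 * 200) 200 = true := by decide +kernel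
theorem ck618 : rangeAll (chkAtT pt 12 tb RJ) (618 * 200) 200 = true := by decide +kernel
theorem ck619 : rangeAll (chkAtT pt 12 tb RJ) (619 * 200) 200 = true := by decide +kernel
theorem ck620 : rangeAll (chkAtT pt 12 tb RJ) (620 * 200) 200 = true := by decide +kernel
theorem ck621 : rangeAll (chkAtT pt 12 tb RJ) (621 * 200) 200 = true := by decide +kernel
theorem ck622 : rangeAll (chkAtT pt 12 tb RJ) (622 * 200) 200 = true := by decide +kernel
theorem ck623 : rangeAll (chkAtT pt 12 tb RJ) (623 * 200) 200 = true := by decide +kernel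
theorem ck624 : rangeAll (chkAtT pt 12 tb RJ) (624 * 200) 200 = true := by decide +kernel
theorem ck625 : rangeAll (chkAtT pt 12 tb RJ) (625 * 200) 200 = true := by decide +kernel
theorem ck626 : rangeAll (chkAtT pt 12 tb RJ) (626 * 200) 200 = true := by decide +kernel
theorem ck627 : rangeAll (chkAtT pt 12 tb RJ) (627 * 200) 200 = true := by decide +kernel
theorem ck628 : rangeAll (chkAtT pt 12 tb RJ) (628 * 200) 200 = true := by decide +kernel
theorem ck629 : rangeAll (chkAtT pt 12 tb RJ) (629 * 200) 200 = true := by decide +kernel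
theorem ck630 : rangeAll (chkAtT pt 12 tb RJ) (630 * 200) 200 = true := by decide +kernel
theorem ck631 : rangeAll (chkAtT pt 12 tb RJ) (631 * 200) 200 = true := by decide +kernel
theorem ck632 : rangeAll (chkAtT pt 12 tb RJ) (632 * 200) 200 = true := by decide +kernel
theorem ck633 : rangeAll (chkAtT pt 12 tb RJ) (633 * 200) 200 = true := by decide +kernel
theorem ck634 : rangeAll (chkAtT pt 12 tb RJ) (634 * 200) 200 = true := by decide +kernel
theorem ck635 : rangeAll (chkAtT pt 12 tb RJ) (635 * 200) 200 = true := by decide +kernel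
theorem ck636 : rangeAll (chkAtT pt 12 tb RJ) (636 * 200) 200 = true := by decide +kernel
theorem ck637 : rangeAll (chkAtT pt 12 tb RJ) (637 * 200) 200 = true := by decide +kernel
theorem ck638 : rangeAll (chkAtT pt 12 tb RJ) (638 * 200) 200 = true := by decide +kernel
theorem ck639 : rangeAll (chkAtT pt 12 tb RJ) (639 * 200) 200 = true := by decide +kernel
theorem ck640 : rangeAll (chkAtT pt 12 tb RJ) (640 * 200) 200 = true := by decide +kernel
theorem ck641 : rangeAll (chkAtT pt 12 tb RJ) (641 * 200) 200 = true := by decide +kernel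
theorem ck642 : rangeAll (chkAtT pt 12 tb RJ) (642 * 200) 200 = true := by decide +kernel
theorem ck643 : rangeAll (chkAtT pt 12 tb RJ) (643 * 200) 200 = true := by decide +kernel
theorem ck644 : rangeAll (chkAtT pt 12 tb RJ) (644 * 200) 200 = true := by decide +kernel
theorem ck645 : rangeAll (chkAtT pt 12 tb RJ) (645 * 200) 200 = true := by decide +kernel
theorem ck646 : rangeAll (chkAtT pt 12 tb RJ) (646 * 200) 200 = true := by decide +kernel
theorem ck647 : rangeAll (chkAtT pt 12 tb RJ) (647 * 200) 200 = true := by decide +kernel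
theorem ck648 : rangeAll (chkAtT pt 12 tb RJ) (648 * 200) 200 = true := by decide +kernel
theorem ck649 : rangeAll (chkAtT pt 12 tb RJ) (649 * 200) 200 = true := by decide +kernel

end Cfsg.Agent.Lib.Schur.Cover.Fi24T
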