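import Cfsg.Agent.Lib.Schur.Cover.Fi24T.Tab
import Cfsg.Agent.Lib.TC.G.Fi24

set_option autoImplicit false
set_option maxRecDepth 100000
set_option maxHeartbeats 0
set_option Elab.async false

namespace Cfsg.Agent.Lib.Schur.Cover.Fi24T

open Cfsg.Agent.Lib.Schur.CoverTw Cfsg.Agent.Lib.PermComp.Kron
open Cfsg.Agent.Lib.TC.D.Fi24a.Tab (pt)

theorem ck0 : rangeAll (chkAtT pt 12 tb RJ) (0 * 200) 200 = true := by decide +kernel
theorem ck1 : rangeAll (chkAtT pt 12 tb RJ) (1 * 200) 200 = true := by decide +kernel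
theorem ck2 : rangeAll (chkAtT pt 12 tb RJ) (2 * 200) 200 = true := by decide +kernel
theorem ck3 : rangeAll (chkAtT pt 12 tb RJ) (3 * 200) 200 = true := by decide +kernel
theorem ck4 : rangeAll (chkAtT pt 12 tb RJ) (4 * 200) 200 = true := by decide +kernel
theorem ck5 : rangeAll (chkAtT pt 12 tb RJ) (5 * 200) 200 = true := by decide +kernel
theorem ck6 : rangeAll (chkAtT pt 12 tb RJ) (6 * 200) 200 = true := by decide +kernel
theorem ck7 : rangeAll (chkAtT pt 12 tb RJ) (7 * 200) 200 = true := by decide +kernel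
theorem ck8 : rangeAll (chkAtT pt 12 tb RJ) (8 * 200) 200 = true := by decide +kernel
theorem ck9 : rangeAll (chkAtT pt 12 tb RJ) (9 * 200) 200 = true := by decide +kernel
theorem ck10 : rangeAll (chkAtT pt 12 tb RJ) (10 * 200) 200 = true := by decide +kernel
theorem ck11 : rangeAll (chkAtT pt 12 tb RJ) (11 * 200) 200 = true := by decide +kernel
theorem ck12 : rangeAll (chkAtT pt 12 tb RJ) (12 * 200) 200 = true := by decide +kernel
theorem ck13 : rangeAll (chkAtT pt 12 tb RJ) (13 * 200) 200 = true := by decide +kernel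
theorem ck14 : rangeAll (chkAtT pt 12 tb RJ) (14 * 200) 200 = true := by decide +kernel
theorem ck15 : rangeAll (chkAtT pt 12 tb RJ) (15 * 200) 200 = true := by decide +kernel
theorem ck16 : rangeAll (chkAtT pt 12 tb RJ) (16 * 200) 200 = true := by decide +kernel
theorem ck17 : rangeAll (chkAtT pt 12 tb RJ) (17 * 200) 200 = true := by decide +kernel
theorem ck18 : rangeAll (chkAtT pt 12 tb RJ) (18 * 200) 200 = true := by decide +kernel
theorem ck19 : rangeAll (chkAtT pt 12 tb RJ) (19 * 200) 200 = true := by decide +kernel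
theorem ck20 : rangeAll (chkAtT pt 12 tb RJ) (20 * 200) 200 = true := by decide +kernel
theorem ck21 : rangeAll (chkAtT pt 12 tb RJ) (21 * 200) 200 = true := by decide +kernel
theorem ck22 : rangeAll (chkAtT pt 12 tb RJ) (22 * 200) 200 = true := by decide +kernel
theorem ck23 : rangeAll (chkAtT pt 12 tb RJ) (23 * 200) 200 = true := by decide +kernel
theorem ck24 : rangeAll (chkAtT pt 12 tb RJ) (24 * 200) 200 = true := by decide +kernel
theorem ck25 : rangeAll (chkAtT pt 12 tb RJ) (25 * 200) 200 = true := by decide +kernel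
theorem ck26 : rangeAll (chkAtT pt 12 tb RJ) (26 * 200) 200 = true := by decide +kernel
theorem ck27 : rangeAll (chkAtT pt 12 tb RJ) (27 * 200) 200 = true := by decide +kernel
theorem ck28 : rangeAll (chkAtT pt 12 tb RJ) (28 * 200) 200 = true := by decide +kernel
theorem ck29 : rangeAll (chkAtT pt 12 tb RJ) (29 * 200) 200 = true := by decide +kernel
theorem ck30 : rangeAll (chkAtT pt 12 tb RJ) (30 * 200) 200 = true := by decide +kernel
theorem ck31 : rangeAll (chkAtT pt 12 tb RJ) (31 * 200) 200 = true := by decide +kernel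
theorem ck32 : rangeAll (chkAtT pt 12 tb RJ) (32 * 200) 200 = true := by decide +kernel
theorem ck33 : rangeAll (chkAtT pt 12 tb RJ) (33 * 200) 200 = true := by decide +kernel
theorem ck34 : rangeAll (chkAtT pt 12 tb RJ) (34 * 200) 200 = true := by decide +kernel
theorem ck35 : rangeAll (chkAtT pt 12 tb RJ) (35 * 200) 200 = true := by decide +kernel
theorem ck36 : rangeAll (chkAtT pt 12 tb RJ) (36 * 200) 200 = true := by decide +kernel
theorem ck37 : rangeAll (chkAtT pt 12 tb RJ) (37 * 200) 200 = true := by decide +kernel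
theorem ck38 : rangeAll (chkAtT pt 12 tb RJ) (38 * 200) 200 = true := by decide +kernel
theorem ck39 : rangeAll (chkAtT pt 12 tb RJ) (39 * 200) 200 = true := by decide +kernel
theorem ck40 : rangeAll (chkAtT pt 12 tb RJ) (40 * 200) 200 = true := by decide +kernel
theorem ck41 : rangeAll (chkAtT pt 12 tb RJ) (41 * 200) 200 = true := by decide +kernel
theorem ck42 : rangeAll (chkAtT pt 12 tb RJ) (42 * 200) 200 = true := by decide +kernel
theorem ck43 : rangeAll (chkAtT pt 12 tb RJ) (43 * 200) 200 = true := by decide +kernel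
theorem ck44 : rangeAll (chkAtT pt 12 tb RJ) (44 * 200) 200 = true := by decide +kernel
theorem ck45 : rangeAll (chkAtT pt 12 tb RJ) (45 * 200) 200 = true := by decide +kernel
theorem ck46 : rangeAll (chkAtT pt 12 tb RJ) (46 * 200) 200 = true := by decide +kernel
theorem ck47 : rangeAll (chkAtT pt 12 tb RJ) (47 * 200) 200 = true := by decide +kernel
theorem ck48 : rangeAll (chkAtT pt 12 tb RJ) (48 * 200) 200 = true := by decide +kernel
theorem ck49 : rangeAll (chkAtT pt 12 tb RJ) (49 * 200) 200 = true := by decide +kernel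
theorem ck50 : rangeAll (chkAtT pt 12 tb RJ) (50 * 200) 200 = true := by decide +kernel
theorem ck51 : rangeAll (chkAtT pt 12 tb RJ) (51 * 200) 200 = true := by decide +kernel
theorem ck52 : rangeAll (chkAtT pt 12 tb RJ) (52 * 200) 200 = true := by decide +kernel
theorem ck53 : rangeAll (chkAtT pt 12 tb RJ) (53 * 200) 200 = true := by decide +kernel
theorem ck54 : rangeAll (chkAtT pt 12 tb RJ) (54 * 200) 200 = true := by decide +kernel
theorem ck55 : rangeAll (chkAtT pt 12 tb RJ) (55 * 200) 200 = true := by decide +kernel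
theorem ck56 : rangeAll (chkAtT pt 12 tb RJ) (56 * 200) 200 = true := by decide +kernel
theorem ck57 : rangeAll (chkAtT pt 12 tb RJ) (57 * 200) 200 = true := by decide +kernel
theorem ck58 : rangeAll (chkAtT pt 12 tb RJ) (58 * 200) 200 = true := by decide +kernel
theorem ck59 : rangeAll (chkAtT pt 12 tb RJ) (59 * 200) 200 = true := by decide +kernel
theorem ck60 : rangeAll (chkAtT pt 12 tb RJ) (60 * 200) 200 = true := by decide +kernel
theorem ck61 : rangeAll (chkAtT pt 12 tb RJ) (61 * 200) 200 = true := by decide +kernel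
theorem ck62 : rangeAll (chkAtT pt 12 tb RJ) (62 * 200) 200 = true := by decide +kernel
theorem ck63 : rangeAll (chkAtT pt 12 tb RJ) (63 * 200) 200 = true := by decide +kernel
theorem ck64 : rangeAll (chkAtT pt 12 tb RJ) (64 * 200) 200 = true := by decide +kernel

end Cfsg.Agent.Lib.Schur.Cover.Fi24T
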