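import Cfsg.Agent.Lib.Schur.Cover.Fi24T.Tab
import Cfsg.Agent.Lib.TC.G.Fi24

set_option autoImplicit false
set_option maxRecDepth 100000
set_option maxHeartbeats 0
set_option Elab.async false

namespace Cfsg.Agent.Lib.Schur.Cover.Fi24T

open Cfsg.Agent.Lib.Schur.CoverTw Cfsg.Agent.Lib.PermComp.Kron
open Cfsg.Agent.Lib.TC.D.Fi24a.Tab (pt)

theorem ck780 : rangeAll (chkAtT pt 12 tb RJ) (780 * 200) 200 = true := by decide +kernel
theorem ck781 : rangeAll (chkAtT pt 12 tb RJ) (781 * 200) 200 = true := by decide +kernel
theorem ck782 : rangeAll (chkAtT pt 12 tb RJ) (782 * 200) 200 = true := by decide +kernel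
theorem ck783 : rangeAll (chkAtT pt 12 tb RJ) (783 * 200) 200 = true := by decide +kernel
theorem ck784 : rangeAll (chkAtT pt 12 tb RJ) (784 * 200) 200 = true := by decide +kernel
theorem ck785 : rangeAll (chkAtT pt 12 tb RJ) (785 * 200) 200 = true := by decide +kernel
theorem ck786 : rangeAll (chkAtT pt 12 tb RJ) (786 * 200) 200 = true := by decide +kernel
theorem ck787 : rangeAll (chkAtT pt 12 tb RJ) (787 * 200) 200 = true := by decide +kernel
theorem ck788 : rangeAll (chkAtT pt 12 tb RJ) (788 * 200) 200 = true := by decide +kernel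
theorem ck789 : rangeAll (chkAtT pt 12 tb RJ) (789 * 200) 200 = true := by decide +kernel
theorem ck790 : rangeAll (chkAtT pt 12 tb RJ) (790 * 200) 200 = true := by decide +kernel
theorem ck791 : rangeAll (chkAtT pt 12 tb RJ) (791 * 200) 200 = true := by decide +kernel
theorem ck792 : rangeAll (chkAtT pt 12 tb RJ) (792 * 200) 200 = true := by decide +kernel
theorem ck793 : rangeAll (chkAtT pt 12 tb RJ) (793 * 200) 200 = true := by decide +kernel
theorem ck794 : rangeAll (chkAtT pt 12 tb RJ) (794 * 200) 200 = true := by decide +kernel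
theorem ck795 : rangeAll (chkAtT pt 12 tb RJ) (795 * 200) 200 = true := by decide +kernel
theorem ck796 : rangeAll (chkAtT pt 12 tb RJ) (796 * 200) 200 = true := by decide +kernel
theorem ck797 : rangeAll (chkAtT pt 12 tb RJ) (797 * 200) 200 = true := by decide +kernel
theorem ck798 : rangeAll (chkAtT pt 12 tb RJ) (798 * 200) 200 = true := by decide +kernel
theorem ck799 : rangeAll (chkAtT pt 12 tb RJ) (799 * 200) 200 = true := by decide +kernel
theorem ck800 : rangeAll (chkAtT pt 12 tb RJ) (800 * 200) 200 = true := by decide +kernel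
theorem ck801 : rangeAll (chkAtT pt 12 tb RJ) (801 * 200) 200 = true := by decide +kernel
theorem ck802 : rangeAll (chkAtT pt 12 tb RJ) (802 * 200) 200 = true := by decide +kernel
theorem ck803 : rangeAll (chkAtT pt 12 tb RJ) (803 * 200) 200 = true := by decide +kernel
theorem ck804 : rangeAll (chkAtT pt 12 tb RJ) (804 * 200) 200 = true := by decide +kernel
theorem ck805 : rangeAll (chkAtT pt 12 tb RJ) (805 * 200) 200 = true := by decide +kernel
theorem ck806 : rangeAll (chkAtT pt 12 tb RJ) (806 * 200) 200 = true := by decide +kernel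
theorem ck807 : rangeAll (chkAtT pt 12 tb RJ) (807 * 200) 200 = true := by decide +kernel
theorem ck808 : rangeAll (chkAtT pt 12 tb RJ) (808 * 200) 200 = true := by decide +kernel
theorem ck809 : rangeAll (chkAtT pt 12 tb RJ) (809 * 200) 200 = true := by decide +kernel
theorem ck810 : rangeAll (chkAtT pt 12 tb RJ) (810 * 200) 200 = true := by decide +kernel
theorem ck811 : rangeAll (chkAtT pt 12 tb RJ) (811 * 200) 200 = true := by decide +kernel
theorem ck812 : rangeAll (chkAtT pt 12 tb RJ) (812 * 200) 200 = true := by decide +kernel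
theorem ck813 : rangeAll (chkAtT pt 12 tb RJ) (813 * 200) 200 = true := by decide +kernel
theorem ck814 : rangeAll (chkAtT pt 12 tb RJ) (814 * 200) 200 = true := by decide +kernel
theorem ck815 : rangeAll (chkAtT pt 12 tb RJ) (815 * 200) 200 = true := by decide +kernel
theorem ck816 : rangeAll (chkAtT pt 12 tb RJ) (816 * 200) 200 = true := by decide +kernel
theorem ck817 : rangeAll (chkAtT pt 12 tb RJ) (817 * 200) 200 = true := by decide +kernel
theorem ck818 : rangeAll (chkAtT pt 12 tb RJ) (818 * 200) 200 = true := by decide +kernel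
theorem ck819 : rangeAll (chkAtT pt 12 tb RJ) (819 * 200) 200 = true := by decide +kernel
theorem ck820 : rangeAll (chkAtT pt 12 tb RJ) (820 * 200) 200 = true := by decide +kernel
theorem ck821 : rangeAll (chkAtT pt 12 tb RJ) (821 * 200) 200 = true := by decide +kernel
theorem ck822 : rangeAll (chkAtT pt 12 tb RJ) (822 * 200) 200 = true := by decide +kernel
theorem ck823 : rangeAll (chkAtT pt 12 tb RJ) (823 * 200) 200 = true := by decide +kernel
theorem ck824 : rangeAll (chkAtT pt 12 tb RJ) (824 * 200) 200 = true := by decide +kernel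
theorem ck825 : rangeAll (chkAtT pt 12 tb RJ) (825 * 200) 200 = true := by decide +kernel
theorem ck826 : rangeAll (chkAtT pt 12 tb RJ) (826 * 200) 200 = true := by decide +kernel
theorem ck827 : rangeAll (chkAtT pt 12 tb RJ) (827 * 200) 200 = true := by decide +kernel
theorem ck828 : rangeAll (chkAtT pt 12 tb RJ) (828 * 200) 200 = true := by decide +kernel
theorem ck829 : rangeAll (chkAtT pt 12 tb RJ) (829 * 200) 200 = true := by decide +kernel
theorem ck830 : rangeAll (chkAtT pt 12 tb RJ) (830 * 200) 200 = true := by decide +kernel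
theorem ck831 : rangeAll (chkAtT pt 12 tb RJ) (831 * 200) 200 = true := by decide +kernel
theorem ck832 : rangeAll (chkAtT pt 12 tb RJ) (832 * 200) 200 = true := by decide +kernel
theorem ck833 : rangeAll (chkAtT pt 12 tb RJ) (833 * 200) 200 = true := by decide +kernel
theorem ck834 : rangeAll (chkAtT pt 12 tb RJ) (834 * 200) 200 = true := by decide +kernel
theorem ck835 : rangeAll (chkAtT pt 12 tb RJ) (835 * 200) 200 = true := by decide +kernel
theorem ck836 : rangeAll (chkAtT pt 12 tb RJ) (836 * 200) 200 = true := by decide +kernel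
theorem ck837 : rangeAll (chkAtT pt 12 tb RJ) (837 * 200) 200 = true := by decide +kernel
theorem ck838 : rangeAll (chkAtT pt 12 tb RJ) (838 * 200) 200 = true := by decide +kernel
theorem ck839 : rangeAll (chkAtT pt 12 tb RJ) (839 * 200) 200 = true := by decide +kernel
theorem ck840 : rangeAll (chkAtT pt 12 tb RJ) (840 * 200) 200 = true := by decide +kernel
theorem ck841 : rangeAll (chkAtT pt 12 tb RJ) (841 * 200) 200 = true := by decide +kernel
theorem ck842 : rangeAll (chkAtT pt 12 tb RJ) (842 * 200) 200 = true := by decide +kernel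
theorem ck843 : rangeAll (chkAtT pt 12 tb RJ) (843 * 200) 200 = true := by decide +kernel
theorem ck844 : rangeAll (chkAtT pt 12 tb RJ) (844 * 200) 200 = true := by decide +kernel

end Cfsg.Agent.Lib.Schur.Cover.Fi24T
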