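import Cfsg.Agent.Lib.Schur.CoverTw
import Cfsg.Agent.Lib.TC.D.Fi24a.Tab
import Cfsg.Agent.Lib.Schur.Cover.Fi24T.P0
import Cfsg.Agent.Lib.Schur.Cover.Fi24T.P1
import Cfsg.Agent.Lib.Schur.Cover.Fi24T.P2
import Cfsg.Agent.Lib.Schur.Cover.Fi24T.P3
import Cfsg.Agent.Lib.Schur.Cover.Fi24T.P4
import Cfsg.Agent.Lib.Schur.Cover.Fi24T.P5
import Cfsg.Agent.Lib.Schur.Cover.Fi24T.P6
import Cfsg.Agent.Lib.Schur.Cover.Fi24T.P7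

/-! # A threefold cover of `Fi₂₄′`: twisted monomial tables on the 306936 transpositions, generated by a script. -/

set_option autoImplicit false
set_option maxRecDepth 100000

namespace Cfsg.Agent.Lib.Schur.Cover.Fi24T

open Cfsg.Agent.Lib.TC.Core (force)
open Cfsg.Agent.Lib.TC.Enc

/-- The chunks of the table. -/
noncomputable def ttree : Tr Nat :=
  (Tr.node (Tr.node (Tr.node P0.tree P4.tree) (Tr.node P2.tree P6.tree))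
    (Tr.node (Tr.node P1.tree P5.tree) (Tr.node P3.tree P7.tree)))

/-- The table. -/
noncomputable def tb (c x : Nat) : Nat :=
  force (Nat.shiftRight x (nat_lit 8)) fun j =>
    Nat.land (Nat.shiftRight (ttree.get j)
      (Nat.mul (Nat.add (Nat.mul (Nat.land x (nat_lit 255)) (nat_lit 12)) c) (nat_lit 20))) (nat_lit 1048575)

/-- Relators and exponents. -/
def RJ : List (List Nat × Nat) := [([nat_lit 0,nat_lit 0],nat_lit 0),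
  ([nat_lit 1,nat_lit 0,nat_lit 1,nat_lit 0,nat_lit 1,nat_lit 0],nat_lit 0),
  ([nat_lit 2,nat_lit 0,nat_lit 2,nat_lit 0],nat_lit 0),
  ([nat_lit 3,nat_lit 0,nat_lit 3,nat_lit 0],nat_lit 0),
  ([nat_lit 4,nat_lit 0,nat_lit 4,nat_lit 0],nat_lit 0),
  ([nat_lit 5,nat_lit 0,nat_lit 5,nat_lit 0],nat_lit 0),
  ([nat_lit 6,nat_lit 0,nat_lit 6,nat_lit 0],nat_lit 0),
  ([nat_lit 7,nat_lit 0,nat_lit 7,nat_lit 0],nat_lit 0),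
  ([nat_lit 8,nat_lit 0,nat_lit 8,nat_lit 0],nat_lit 0),
  ([nat_lit 9,nat_lit 0,nat_lit 9,nat_lit 0],nat_lit 0),
  ([nat_lit 10,nat_lit 0,nat_lit 10,nat_lit 0],nat_lit 0),
  ([nat_lit 11,nat_lit 0,nat_lit 11,nat_lit 0],nat_lit 0),
  ([nat_lit 1,nat_lit 1],nat_lit 0),
  ([nat_lit 2,nat_lit 1,nat_lit 2,nat_lit 1,nat_lit 2,nat_lit 1],nat_lit 0),
  ([nat_lit 3,nat_lit 1,nat_lit 3,nat_lit 1],nat_lit 0),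
  ([nat_lit 4,nat_lit 1,nat_lit 4,nat_lit 1],nat_lit 0),
  ([nat_lit 5,nat_lit 1,nat_lit 5,nat_lit 1],nat_lit 0),
  ([nat_lit 6,nat_lit 1,nat_lit 6,nat_lit 1],nat_lit 0),
  ([nat_lit 7,nat_lit 1,nat_lit 7,nat_lit 1],nat_lit 0),
  ([nat_lit 8,nat_lit 1,nat_lit 8,nat_lit 1],nat_lit 0),
  ([nat_lit 9,nat_lit 1,nat_lit 9,nat_lit 1],nat_lit 0),
  ([nat_lit 10,nat_lit 1,nat_lit 10,nat_lit 1],nat_lit 0),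
  ([nat_lit 11,nat_lit 1,nat_lit 11,nat_lit 1],nat_lit 0),
  ([nat_lit 2,nat_lit 2],nat_lit 0),
  ([nat_lit 3,nat_lit 2,nat_lit 3,nat_lit 2,nat_lit 3,nat_lit 2],nat_lit 0),
  ([nat_lit 4,nat_lit 2,nat_lit 4,nat_lit 2],nat_lit 0),
  ([nat_lit 5,nat_lit 2,nat_lit 5,nat_lit 2],nat_lit 0),
  ([nat_lit 6,nat_lit 2,nat_lit 6,nat_lit 2],nat_lit 0),
  ([nat_lit 7,nat_lit 2,nat_lit 7,nat_lit 2],nat_lit 0),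
  ([nat_lit 8,nat_lit 2,nat_lit 8,nat_lit 2],nat_lit 0),
  ([nat_lit 9,nat_lit 2,nat_lit 9,nat_lit 2],nat_lit 0),
  ([nat_lit 10,nat_lit 2,nat_lit 10,nat_lit 2],nat_lit 0),
  ([nat_lit 11,nat_lit 2,nat_lit 11,nat_lit 2],nat_lit 0),
  ([nat_lit 3,nat_lit 3],nat_lit 0),
  ([nat_lit 4,nat_lit 3,nat_lit 4,nat_lit 3,nat_lit 4,nat_lit 3],nat_lit 0),
  ([nat_lit 5,nat_lit 3,nat_lit 5,nat_lit 3],nat_lit 0),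
  ([nat_lit 6,nat_lit 3,nat_lit 6,nat_lit 3],nat_lit 0),
  ([nat_lit 7,nat_lit 3,nat_lit 7,nat_lit 3],nat_lit 0),
  ([nat_lit 8,nat_lit 3,nat_lit 8,nat_lit 3],nat_lit 0),
  ([nat_lit 9,nat_lit 3,nat_lit 9,nat_lit 3],nat_lit 0),
  ([nat_lit 10,nat_lit 3,nat_lit 10,nat_lit 3],nat_lit 0),
  ([nat_lit 11,nat_lit 3,nat_lit 11,nat_lit 3],nat_lit 0),
  ([nat_lit 4,nat_lit 4],nat_lit 0),
  ([nat_lit 5,nat_lit 4,nat_lit 5,nat_lit 4,nat_lit 5,nat_lit 4],nat_lit 0),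
  ([nat_lit 6,nat_lit 4,nat_lit 6,nat_lit 4],nat_lit 0),
  ([nat_lit 7,nat_lit 4,nat_lit 7,nat_lit 4],nat_lit 0),
  ([nat_lit 8,nat_lit 4,nat_lit 8,nat_lit 4],nat_lit 0),
  ([nat_lit 9,nat_lit 4,nat_lit 9,nat_lit 4],nat_lit 0),
  ([nat_lit 10,nat_lit 4,nat_lit 10,nat_lit 4],nat_lit 0),
  ([nat_lit 11,nat_lit 4,nat_lit 11,nat_lit 4],nat_lit 0),
  ([nat_lit 5,nat_lit 5],nat_lit 0),
  ([nat_lit 6,nat_lit 5,nat_lit 6,nat_lit 5,nat_lit 6,nat_lit 5],nat_lit 0),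
  ([nat_lit 7,nat_lit 5,nat_lit 7,nat_lit 5],nat_lit 0),
  ([nat_lit 8,nat_lit 5,nat_lit 8,nat_lit 5],nat_lit 0),
  ([nat_lit 9,nat_lit 5,nat_lit 9,nat_lit 5],nat_lit 0),
  ([nat_lit 10,nat_lit 5,nat_lit 10,nat_lit 5,nat_lit 10,nat_lit 5],nat_lit 0),
  ([nat_lit 11,nat_lit 5,nat_lit 11,nat_lit 5],nat_lit 0),
  ([nat_lit 6,nat_lit 6],nat_lit 0),
  ([nat_lit 7,nat_lit 6,nat_lit 7,nat_lit 6,nat_lit 7,nat_lit 6],nat_lit 0),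
  ([nat_lit 8,nat_lit 6,nat_lit 8,nat_lit 6],nat_lit 0),
  ([nat_lit 9,nat_lit 6,nat_lit 9,nat_lit 6],nat_lit 0),
  ([nat_lit 10,nat_lit 6,nat_lit 10,nat_lit 6],nat_lit 0),
  ([nat_lit 11,nat_lit 6,nat_lit 11,nat_lit 6],nat_lit 0),
  ([nat_lit 7,nat_lit 7],nat_lit 0),
  ([nat_lit 8,nat_lit 7,nat_lit 8,nat_lit 7,nat_lit 8,nat_lit 7],nat_lit 0),
  ([nat_lit 9,nat_lit 7,nat_lit 9,nat_lit 7],nat_lit 0),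
  ([nat_lit 10,nat_lit 7,nat_lit 10,nat_lit 7],nat_lit 0),
  ([nat_lit 11,nat_lit 7,nat_lit 11,nat_lit 7],nat_lit 0),
  ([nat_lit 8,nat_lit 8],nat_lit 0),
  ([nat_lit 9,nat_lit 8,nat_lit 9,nat_lit 8,nat_lit 9,nat_lit 8],nat_lit 0),
  ([nat_lit 10,nat_lit 8,nat_lit 10,nat_lit 8],nat_lit 0),
  ([nat_lit 11,nat_lit 8,nat_lit 11,nat_lit 8],nat_lit 0),
  ([nat_lit 9,nat_lit 9],nat_lit 0),
  ([nat_lit 10,nat_lit 9,nat_lit 10,nat_lit 9],nat_lit 0),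
  ([nat_lit 11,nat_lit 9,nat_lit 11,nat_lit 9],nat_lit 0),
  ([nat_lit 10,nat_lit 10],nat_lit 0),
  ([nat_lit 11,nat_lit 10,nat_lit 11,nat_lit 10,nat_lit 11,nat_lit 10],nat_lit 0),
  ([nat_lit 11,nat_lit 11],nat_lit 0),
  ([nat_lit 2,nat_lit 3,nat_lit 4,nat_lit 5,nat_lit 6,nat_lit 7,nat_lit 10,nat_lit 2,nat_lit 3,nat_lit 4,nat_lit 5,nat_lit 6,nat_lit 7,nat_lit 10,nat_lit 2,nat_lit 3,nat_lit 4,nat_lit 5,nat_lit 6,nat_lit 7,nat_lit 10,nat_lit 2,nat_lit 3,nat_lit 4,nat_lit 5,nat_lit 6,nat_lit 7,nat_lit 10,nat_lit 2,nat_lit 3,nat_lit 4,nat_lit 5,nat_lit 6,nat_lit 7,nat_lit 10,nat_lit 2,nat_lit 3,nat_lit 4,nat_lit 5,nat_lit 6,nat_lit 7,nat_lit 10,nat_lit 2,nat_lit 3,nat_lit 4,nat_lit 5,nat_lit 6,nat_lit 7,nat_lit 10,nat_lit 2,nat_lit 3,nat_lit 4,nat_lit 5,nat_lit 6,nat_lit 7,nat_lit 10,nat_lit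 2,nat_lit 3,nat_lit 4,nat_lit 5,nat_lit 6,nat_lit 7,nat_lit 10,nat_lit 0],nat_lit 0),
  ([nat_lit 11,nat_lit 10,nat_lit 5,nat_lit 9,nat_lit 8,nat_lit 7,nat_lit 6,nat_lit 5,nat_lit 0,nat_lit 1,nat_lit 2,nat_lit 3,nat_lit 4,nat_lit 5,nat_lit 11,nat_lit 10,nat_lit 5,nat_lit 9,nat_lit 8,nat_lit 7,nat_lit 6,nat_lit 5,nat_lit 0,nat_lit 1,nat_lit 2,nat_lit 3,nat_lit 4,nat_lit 5,nat_lit 11,nat_lit 10,nat_lit 5,nat_lit 9,nat_lit 8,nat_lit 7,nat_lit 6,nat_lit 5,nat_lit 0,nat_lit 1,nat_lit 2,nat_lit 3,nat_lit 4,nat_lit 5,nat_lit 11,nat_lit 10,nat_lit 5,nat_lit 9,nat_lit 8,nat_lit 7,nat_lit 6,nat_lit 5,nat_lit 0,nat_lit 1,nat_lit 2,nat_lit 3,nat_lit 4,nat_lit 5,nat_lit 11,nat_lit 10,nat_lit 5,nat_lit 9,nat_lit 8,nat_lit 7,nat_lit 6,nat_lit 5,nat_lit 0,nat_lit 1,nat_lit 2,nat_lit 3,nat_lit 4,nat_lit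 5,nat_lit 11,nat_lit 10,nat_lit 5,nat_lit 9,nat_lit 8,nat_lit 7,nat_lit 6,nat_lit 5,nat_lit 0,nat_lit 1,nat_lit 2,nat_lit 3,nat_lit 4,nat_lit 5,nat_lit 11,nat_lit 10,nat_lit 5,nat_lit 9,nat_lit 8,nat_lit 7,nat_lit 6,nat_lit 5,nat_lit 0,nat_lit 1,nat_lit 2,nat_lit 3,nat_lit 4,nat_lit 5,nat_lit 11,nat_lit 10,nat_lit 5,nat_lit 9,nat_lit 8,nat_lit 7,nat_lit 6,nat_lit 5,nat_lit 0,nat_lit 1,nat_lit 2,nat_lit 3,nat_lit 4,nat_lit 5,nat_lit 11,nat_lit 10,nat_lit 5,nat_lit 9,nat_lit 8,nat_lit 7,nat_lit 6,nat_lit 5,nat_lit 0,nat_lit 1,nat_lit 2,nat_lit 3,nat_lit 4,nat_lit 5,nat_lit 11,nat_lit 10,nat_lit 5,nat_lit 9,nat_lit 8,nat_lit 7,nat_lit 6,nat_lit 5,nat_lit 0,nat_lit 1,nat_lit 2,nat_lit 3,nat_lit 4,nat_lit 5,nat_lit 11,nat_lit 10,nat_lit 5,nat_lit 9,nat_lit 8,nat_lit 7,nat_lit 6,nat_lit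 5,nat_lit 0,nat_lit 1,nat_lit 2,nat_lit 3,nat_lit 4,nat_lit 5,nat_lit 11,nat_lit 10,nat_lit 5,nat_lit 9,nat_lit 8,nat_lit 7,nat_lit 6,nat_lit 5,nat_lit 0,nat_lit 1,nat_lit 2,nat_lit 3,nat_lit 4,nat_lit 5,nat_lit 11,nat_lit 10,nat_lit 5,nat_lit 9,nat_lit 8,nat_lit 7,nat_lit 6,nat_lit 5,nat_lit 0,nat_lit 1,nat_lit 2,nat_lit 3,nat_lit 4,nat_lit 5,nat_lit 11,nat_lit 10,nat_lit 5,nat_lit 9,nat_lit 8,nat_lit 7,nat_lit 6,nat_lit 5,nat_lit 0,nat_lit 1,nat_lit 2,nat_lit 3,nat_lit 4,nat_lit 5,nat_lit 11,nat_lit 10,nat_lit 5,nat_lit 9,nat_lit 8,nat_lit 7,nat_lit 6,nat_lit 5,nat_lit 0,nat_lit 1,nat_lit 2,nat_lit 3,nat_lit 4,nat_lit 5,nat_lit 11,nat_lit 10,nat_lit 5,nat_lit 9,nat_lit 8,nat_lit 7,nat_lit 6,nat_lit 5,nat_lit 0,nat_lit 1,nat_lit 2,nat_lit 3,nat_lit 4,nat_lit 5,nat_lit 11,nat_lit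 10,nat_lit 5,nat_lit 9,nat_lit 8,nat_lit 7,nat_lit 6,nat_lit 5,nat_lit 0,nat_lit 1,nat_lit 2,nat_lit 3,nat_lit 4,nat_lit 5],nat_lit 1)]

/-- A combination of relators. -/
def rowsC : List (List Nat × Nat × Int) := [([nat_lit 3,nat_lit 0,nat_lit 3,nat_lit 0],nat_lit 0,(10 : Int)),
  ([nat_lit 4,nat_lit 0,nat_lit 4,nat_lit 0],nat_lit 0,(-3 : Int)),
  ([nat_lit 8,nat_lit 0,nat_lit 8,nat_lit 0],nat_lit 0,(-10 : Int)),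
  ([nat_lit 9,nat_lit 0,nat_lit 9,nat_lit 0],nat_lit 0,(10 : Int)),
  ([nat_lit 10,nat_lit 0,nat_lit 10,nat_lit 0],nat_lit 0,(17 : Int)),
  ([nat_lit 11,nat_lit 0,nat_lit 11,nat_lit 0],nat_lit 0,(-7 : Int)),
  ([nat_lit 2,nat_lit 1,nat_lit 2,nat_lit 1,nat_lit 2,nat_lit 1],nat_lit 0,(-1 : Int)),
  ([nat_lit 3,nat_lit 1,nat_lit 3,nat_lit 1],nat_lit 0,(-7 : Int)),
  ([nat_lit 3,nat_lit 2,nat_lit 3,nat_lit 2,nat_lit 3,nat_lit 2],nat_lit 0,(-1 : Int)),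
  ([nat_lit 4,nat_lit 3,nat_lit 4,nat_lit 3,nat_lit 4,nat_lit 3],nat_lit 0,(1 : Int)),
  ([nat_lit 5,nat_lit 4,nat_lit 5,nat_lit 4,nat_lit 5,nat_lit 4],nat_lit 0,(-1 : Int)),
  ([nat_lit 10,nat_lit 5,nat_lit 10,nat_lit 5,nat_lit 10,nat_lit 5],nat_lit 0,(-1 : Int)),
  ([nat_lit 9,nat_lit 8,nat_lit 9,nat_lit 8,nat_lit 9,nat_lit 8],nat_lit 0,(-1 : Int)),
  ([nat_lit 11,nat_lit 10,nat_lit 11,nat_lit 10,nat_lit 11,nat_lit 10],nat_lit 0,(-1 : Int)),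
  ([nat_lit 2,nat_lit 3,nat_lit 4,nat_lit 5,nat_lit 6,nat_lit 7,nat_lit 10,nat_lit 2,nat_lit 3,nat_lit 4,nat_lit 5,nat_lit 6,nat_lit 7,nat_lit 10,nat_lit 2,nat_lit 3,nat_lit 4,nat_lit 5,nat_lit 6,nat_lit 7,nat_lit 10,nat_lit 2,nat_lit 3,nat_lit 4,nat_lit 5,nat_lit 6,nat_lit 7,nat_lit 10,nat_lit 2,nat_lit 3,nat_lit 4,nat_lit 5,nat_lit 6,nat_lit 7,nat_lit 10,nat_lit 2,nat_lit 3,nat_lit 4,nat_lit 5,nat_lit 6,nat_lit 7,nat_lit 10,nat_lit 2,nat_lit 3,nat_lit 4,nat_lit 5,nat_lit 6,nat_lit 7,nat_lit 10,nat_lit 2,nat_lit 3,nat_lit 4,nat_lit 5,nat_lit 6,nat_lit 7,nat_lit 10,nat_lit 2,nat_lit 3,nat_lit 4,nat_lit 5,nat_lit 6,nat_lit 7,nat_lit 10,nat_lit 0],nat_lit 0,(-17 : Int)),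
  ([nat_lit 11,nat_lit 10,nat_lit 5,nat_lit 9,nat_lit 8,nat_lit 7,nat_lit 6,nat_lit 5,nat_lit 0,nat_lit 1,nat_lit 2,nat_lit 3,nat_lit 4,nat_lit 5,nat_lit 11,nat_lit 10,nat_lit 5,nat_lit 9,nat_lit 8,nat_lit 7,nat_lit 6,nat_lit 5,nat_lit 0,nat_lit 1,nat_lit 2,nat_lit 3,nat_lit 4,nat_lit 5,nat_lit 11,nat_lit 10,nat_lit 5,nat_lit 9,nat_lit 8,nat_lit 7,nat_lit 6,nat_lit 5,nat_lit 0,nat_lit 1,nat_lit 2,nat_lit 3,nat_lit 4,nat_lit 5,nat_lit 11,nat_lit 10,nat_lit 5,nat_lit 9,nat_lit 8,nat_lit 7,nat_lit 6,nat_lit 5,nat_lit 0,nat_lit 1,nat_lit 2,nat_lit 3,nat_lit 4,nat_lit 5,nat_lit 11,nat_lit 10,nat_lit 5,nat_lit 9,nat_lit 8,nat_lit 7,nat_lit 6,nat_lit 5,nat_lit 0,nat_lit 1,nat_lit 2,nat_lit 3,nat_lit 4,nat_lit 5,nat_lit 11,nat_lit 10,nat_lit 5,nat_lit 9,nat_lit 8,nat_lit 7,nat_lit 6,nat_lit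 5,nat_lit 0,nat_lit 1,nat_lit 2,nat_lit 3,nat_lit 4,nat_lit 5,nat_lit 11,nat_lit 10,nat_lit 5,nat_lit 9,nat_lit 8,nat_lit 7,nat_lit 6,nat_lit 5,nat_lit 0,nat_lit 1,nat_lit 2,nat_lit 3,nat_lit 4,nat_lit 5,nat_lit 11,nat_lit 10,nat_lit 5,nat_lit 9,nat_lit 8,nat_lit 7,nat_lit 6,nat_lit 5,nat_lit 0,nat_lit 1,nat_lit 2,nat_lit 3,nat_lit 4,nat_lit 5,nat_lit 11,nat_lit 10,nat_lit 5,nat_lit 9,nat_lit 8,nat_lit 7,nat_lit 6,nat_lit 5,nat_lit 0,nat_lit 1,nat_lit 2,nat_lit 3,nat_lit 4,nat_lit 5,nat_lit 11,nat_lit 10,nat_lit 5,nat_lit 9,nat_lit 8,nat_lit 7,nat_lit 6,nat_lit 5,nat_lit 0,nat_lit 1,nat_lit 2,nat_lit 3,nat_lit 4,nat_lit 5,nat_lit 11,nat_lit 10,nat_lit 5,nat_lit 9,nat_lit 8,nat_lit 7,nat_lit 6,nat_lit 5,nat_lit 0,nat_lit 1,nat_lit 2,nat_lit 3,nat_lit 4,nat_lit 5,nat_lit 11,nat_lit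 10,nat_lit 5,nat_lit 9,nat_lit 8,nat_lit 7,nat_lit 6,nat_lit 5,nat_lit 0,nat_lit 1,nat_lit 2,nat_lit 3,nat_lit 4,nat_lit 5,nat_lit 11,nat_lit 10,nat_lit 5,nat_lit 9,nat_lit 8,nat_lit 7,nat_lit 6,nat_lit 5,nat_lit 0,nat_lit 1,nat_lit 2,nat_lit 3,nat_lit 4,nat_lit 5,nat_lit 11,nat_lit 10,nat_lit 5,nat_lit 9,nat_lit 8,nat_lit 7,nat_lit 6,nat_lit 5,nat_lit 0,nat_lit 1,nat_lit 2,nat_lit 3,nat_lit 4,nat_lit 5,nat_lit 11,nat_lit 10,nat_lit 5,nat_lit 9,nat_lit 8,nat_lit 7,nat_lit 6,nat_lit 5,nat_lit 0,nat_lit 1,nat_lit 2,nat_lit 3,nat_lit 4,nat_lit 5,nat_lit 11,nat_lit 10,nat_lit 5,nat_lit 9,nat_lit 8,nat_lit 7,nat_lit 6,nat_lit 5,nat_lit 0,nat_lit 1,nat_lit 2,nat_lit 3,nat_lit 4,nat_lit 5,nat_lit 11,nat_lit 10,nat_lit 5,nat_lit 9,nat_lit 8,nat_lit 7,nat_lit 6,nat_lit 5,nat_lit 0,nat_lit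 1,nat_lit 2,nat_lit 3,nat_lit 4,nat_lit 5],nat_lit 1,(1 : Int))]

end Cfsg.Agent.Lib.Schur.Cover.Fi24T
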